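import Groth.Agent.RBC.Formal
import Groth.Agent.KFlatLib.Scheme.AcyclicPush
import Mathlib.AlgebraicGeometry.Restrict

/-!
# Base change is local on both bases
-/

set_option autoImplicit false
set_option linter.style.haveILetI false
set_option backward.isDefEq.respectTransparency false
set_option backward.isDefEq.respectTransparency.types false

universe u

open CategoryTheory CategoryTheory.Limits AlgebraicGeometry Pretriangulated TopologicalSpace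

attribute [local instance] HasDerivedCategory.standard

namespace Groth.Agent.RBC

open Groth.Agent.KFlatLib Groth.Agent.DQGen

attribute [local instance] hasLpull hasRpush_scheme

variable {X S X' S' : Scheme.{u}}

/-- Base change along the inclusion of an open of the base. -/
theorem bc_open (f : X ⟶ S) (W : S.Opens) (E : DCoh.D X) :
    BC f W.ι (f ∣_ W) (f ⁻¹ᵁ W).ι E := by
  intro L R L' R' G G' eL eL' eG eG' a a' α
  obtain ⟨ag₀⟩ := nonempty_lpull_rpush_adj W.ι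
  obtain ⟨ag₀'⟩ := nonempty_lpull_rpush_adj (f ⁻¹ᵁ W).ι
  let ag := ag₀.ofNatIsoLeft eG.symm
  let ag' := ag₀'.ofNatIsoLeft eG'.symm
  haveI := isIso_counit_of_open W.ι eG ag
  haveI := isIso_counit_of_open (f ⁻¹ᵁ W).ι eG' ag'
  haveI : IsIso ((bcM a a' α.hom).app ((G' ⋙ DCoh.Rpush (f ⁻¹ᵁ W).ι).obj E)) :=
    isIso_bcM_rightAdjoint a a' ag ag' α (G'.obj E)
  haveI : IsIso (G'.map (ag'.unit.app E)) :=
    haveI : IsIso (𝟙 (G'.obj E)) := IsIso.id _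
    IsIso.of_isIso_fac_right (ag'.left_triangle_components E)
  obtain ⟨eR⟩ := nonempty_right_iso eL a
  obtain ⟨e⟩ := nonempty_rpush_restrictD_iso f W
  obtain ⟨r⟩ := nonempty_lpull_rho W.ι
  obtain ⟨r'⟩ := nonempty_lpull_rho (f ⁻¹ᵁ W).ι
  haveI : IsIso ((rho (f ⁻¹ᵁ W).ι).map (ag'.unit.app E)) :=
    (NatIso.isIso_map_iff (eG' ≪≫ r') (ag'.unit.app E)).1 inferInstance
  haveI : IsIso ((DCoh.Rpush f ⋙ rho W.ι).map (ag'.unit.app E)) :=
    (NatIso.isIso_map_iff e (ag'.unit.app E)).2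
      (Functor.map_isIso (DCoh.Rpush (f ∣_ W)) ((rho (f ⁻¹ᵁ W).ι).map (ag'.unit.app E)))
  haveI : IsIso ((R ⋙ G).map (ag'.unit.app E)) :=
    (NatIso.isIso_map_iff (Functor.isoWhiskerRight eR G ≪≫
      Functor.isoWhiskerLeft _ (eG ≪≫ r)) (ag'.unit.app E)).2 inferInstance
  haveI : IsIso ((G' ⋙ R').map (ag'.unit.app E)) :=
    Functor.map_isIso R' (G'.map (ag'.unit.app E))
  have h := (bcM a a' α.hom).naturality (ag'.unit.app E)
  have : IsIso ((bcM a a' α.hom).app E ≫ (G' ⋙ R').map (ag'.unit.app E)) :=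
    h ▸ IsIso.comp_isIso' inferInstance inferInstance
  exact (isIso_comp_right_iff _ _).1 this

/-- Isomorphisms in the derived category are local. -/
lemma isIso_of_local {A B : DCoh.D X} (φ : A ⟶ B)
    (h : ∀ x : X, ∃ W : X.Opens, x ∈ W ∧ IsIso ((DCoh.Lpull W.ι).map φ)) : IsIso φ := by
  refine (DerivedCategory.isIso_iff _ _).2 fun i => isIso_of_isIso_restrict _ fun x => ?_
  obtain ⟨W, hxW, hW⟩ := h x
  obtain ⟨r⟩ := nonempty_lpull_rho W.ι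
  have h' : IsIso ((rho W.ι).map φ) := (NatIso.isIso_map_iff r φ).1 hW
  exact ⟨W, hxW, (NatIso.isIso_map_iff
    (mapDCHomologyIso (Scheme.Modules.restrictFunctor W.ι) i) φ).1
      (haveI := h'; Functor.map_isIso (DerivedCategory.homologyFunctor _ i) ((rho W.ι).map φ))⟩

/-- The preimages needed to restrict a square. -/
lemma preimage_le {f : X ⟶ S} {g : S' ⟶ S} {f' : X' ⟶ S'} {g' : X' ⟶ X} (w : g' ≫ f = f' ≫ g)
    {U : S.Opens} {W : S'.Opens} (hle : W ≤ g ⁻¹ᵁ U) : f' ⁻¹ᵁ W ≤ g' ⁻¹ᵁ (f ⁻¹ᵁ U) := by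
  rw [← Scheme.Hom.comp_preimage, w, Scheme.Hom.comp_preimage]
  exact f'.preimage_mono hle

/-- Base change may be checked over small opens of both bases. -/
theorem bc_of_local {f : X ⟶ S} {g : S' ⟶ S} {f' : X' ⟶ S'} {g' : X' ⟶ X} (w : g' ≫ f = f' ≫ g)
    (E : DCoh.D X)
    (h : ∀ s : S', ∃ (U : S.Opens) (W : S'.Opens) (hle : W ≤ g ⁻¹ᵁ U), s ∈ W ∧
      BC (f ∣_ U) (g.resLE U W hle) (f' ∣_ W) (g'.resLE (f ⁻¹ᵁ U) (f' ⁻¹ᵁ W) (preimage_le w hle))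
        ((DCoh.Lpull (f ⁻¹ᵁ U).ι).obj E)) :
    BC f g f' g' E := by
  intro L R L' R' G G' eL eL' eG eG' a a' α
  refine isIso_of_local _ fun s => ?_
  obtain ⟨U, W, hle, hsW, hbc⟩ := h s
  refine ⟨W, hsW, ?_⟩
  let h₁ := g.resLE U W hle
  let h₁' := g'.resLE (f ⁻¹ᵁ U) (f' ⁻¹ᵁ W) (preimage_le w hle)
  let Gi := DCoh.Lpull U.ι
  let Gh := DCoh.Lpull h₁
  let Gi' := DCoh.Lpull (f ⁻¹ᵁ U).ι
  let Gh' := DCoh.Lpull h₁'
  obtain ⟨aU⟩ := nonempty_lpull_rpush_adj (f ∣_ U)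
  obtain ⟨aW⟩ := nonempty_lpull_rpush_adj (f' ∣_ W)
  obtain ⟨αk₀⟩ := nonempty_sq_iso f' W.ι (f' ∣_ W) (f' ⁻¹ᵁ W).ι (morphismRestrict_ι f' W).symm
  let αk : DCoh.Lpull W.ι ⋙ DCoh.Lpull (f' ∣_ W) ≅ L' ⋙ DCoh.Lpull (f' ⁻¹ᵁ W).ι :=
    αk₀ ≪≫ Functor.isoWhiskerRight eL'.symm _
  have hk := bc_open f' W (G'.obj E) L' R' _ _ _ _ eL' (Iso.refl _) (Iso.refl _) (Iso.refl _) a' aW αk
  -- the horizontal pasting, moved to the other factorisation
  obtain ⟨i₁⟩ := nonempty_lpull_comp' (h := W.ι) (i := g) rfl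
  obtain ⟨i₂⟩ := nonempty_lpull_comp' (k := W.ι ≫ g) (Scheme.Hom.resLE_comp_ι g hle)
  obtain ⟨i₁'⟩ := nonempty_lpull_comp' (h := (f' ⁻¹ᵁ W).ι) (i := g') rfl
  obtain ⟨i₂'⟩ := nonempty_lpull_comp' (k := (f' ⁻¹ᵁ W).ι ≫ g')
    (Scheme.Hom.resLE_comp_ι g' (preimage_le w hle))
  let i : G ⋙ DCoh.Lpull W.ι ≅ Gi ⋙ Gh := Functor.isoWhiskerRight eG _ ≪≫ i₁ ≪≫ i₂.symm
  let i' : G' ⋙ DCoh.Lpull (f' ⁻¹ᵁ W).ι ≅ Gi' ⋙ Gh' :=
    Functor.isoWhiskerRight eG' _ ≪≫ i₁' ≪≫ i₂'.symm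
  let αt : (Gi ⋙ Gh) ⋙ DCoh.Lpull (f' ∣_ W) ⟶ L ⋙ (Gi' ⋙ Gh') :=
    trG (hPaste α.hom αk.hom) i i'
  haveI : ∀ K, IsIso (αt.app K) := fun K => by
    simp only [αt, trG, hPaste_app, NatTrans.comp_app, Functor.whiskerRight_app, Functor.whiskerLeft_app]
    infer_instance
  -- the square over `U`
  obtain ⟨αi₀⟩ := nonempty_sq_iso f U.ι (f ∣_ U) (f ⁻¹ᵁ U).ι (morphismRestrict_ι f U).symm
  let αi : Gi ⋙ DCoh.Lpull (f ∣_ U) ≅ L ⋙ Gi' := αi₀ ≪≫ Functor.isoWhiskerRight eL.symm _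
  obtain ⟨cU₀⟩ := nonempty_lpull_rpush_adj U.ι
  haveI := isIso_counit_of_open U.ι (Iso.refl (DCoh.Lpull U.ι)) cU₀
  let θ : Gi ⋙ (Gh ⋙ DCoh.Lpull (f' ∣_ W)) ⟶ Gi ⋙ (DCoh.Lpull (f ∣_ U) ⋙ Gh') :=
    { app := fun K => αt.app K ≫ Gh'.map (αi.inv.app K)
      naturality := fun K K' φ => by
        have h₁ := αt.naturality φ
        have h₂ := αi.inv.naturality φ
        simp only [Functor.comp_map] at h₁ h₂ ⊢
        erw [reassoc_of% h₁]
        simp only [Category.assoc, ← Functor.map_comp, h₂] }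
  haveI : ∀ K, IsIso (θ.app K) := fun K => by dsimp only [θ]; infer_instance
  let δ := descendNat cU₀ θ
  haveI : ∀ K, IsIso (δ.app K) := fun K => by dsimp only [δ, descendNat]; infer_instance
  haveI : IsIso δ := NatIso.isIso_of_isIso_app δ
  have hαt : αt = hPaste αi.hom δ := by
    ext K
    rw [hPaste_app, descendNat_app]
    simp only [θ, Category.assoc, ← Functor.map_comp, Iso.inv_hom_id_app]
    erw [CategoryTheory.Functor.map_id, Category.comp_id]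
  have hi := bc_open f U E L R _ _ _ _ eL (Iso.refl _) (Iso.refl _) (Iso.refl _) a aU αi
  have hh := hbc _ _ _ _ _ _ (Iso.refl _) (Iso.refl _) (Iso.refl _) (Iso.refl _) aU aW (asIso δ)
  haveI : IsIso ((bcM a aW (hPaste α.hom αk.hom)).app E) := by
    refine (isIso_bcM_trG_iff a aW _ i i' E).1 ?_
    change IsIso ((bcM a aW αt).app E)
    rw [hαt, bcM_hPaste a aU αi.hom aW δ E]
    haveI := hi
    haveI : IsIso ((bcM aU aW δ).app (Gi'.obj E)) := hh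
    infer_instance
  have e := bcM_hPaste a a' α.hom aW αk.hom E
  haveI := hk
  have : IsIso ((DCoh.Lpull W.ι).map ((bcM a a' α.hom).app E) ≫
      (bcM a' aW αk.hom).app (G'.obj E)) := e ▸ inferInstance
  exact (isIso_comp_right_iff _ _).1 this

end Groth.Agent.RBC
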