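import Groth.Agent.RBC.Affine
import Groth.Agent.RBC.Open
import Groth.Agent.KFlatLib.Scheme.ProjFormula

/-!
# Base change for all quasi-coherent complexes on affine schemes
-/

set_option autoImplicit false
set_option linter.style.haveILetI false
set_option backward.isDefEq.respectTransparency false
set_option backward.isDefEq.respectTransparency.types false
set_option maxHeartbeats 800000

universe u

open CategoryTheory CategoryTheory.Limits AlgebraicGeometry Pretriangulated TopologicalSpace

attribute [local instance] HasDerivedCategory.standard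

noncomputable section

namespace Groth.Agent.RBC

open Groth.Agent.KFlatLib Groth.Agent.DQGen

attribute [local instance] hasLpull hasRpush_scheme

variable {X S X' S' : Scheme.{u}} {f : X ⟶ S} {g : S' ⟶ S} {f' : X' ⟶ S'} {g' : X' ⟶ X}

/-- `Rf_*` preserves coproducts of objects with quasi-coherent cohomology. -/
lemma preservesColimit_rpush [QuasiCompact f] [QuasiSeparated f] {J : Type u} (C : J → DCoh.D X)
    (hC : ∀ j, DCoh.IsQCohD (C j)) : PreservesColimit (Discrete.functor C) (DCoh.Rpush f) := by
  haveI : HasColimitsOfShape (Discrete J) (DCoh.D X) := TriCat.hasColimitsOfShape_derivedCategory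
  haveI : HasColimitsOfShape (Discrete J) (DCoh.D S) := TriCat.hasColimitsOfShape_derivedCategory
  haveI : IsIso (sigmaComparison (DCoh.Rpush f) C) := isIso_sigmaDesc_rpush f C hC
  exact PreservesCoproduct.of_iso_comparison (DCoh.Rpush f) C

/-- A left adjoint preserves coproducts. -/
lemma preservesColimit_left {A B : Type*} [Category A] [Category B] {L : A ⥤ B} {R : B ⥤ A}
    (a : L ⊣ R) {J : Type*} (C : J → A) : PreservesColimit (Discrete.functor C) L := by
  haveI := a.isLeftAdjoint
  infer_instance

/-- `BCs` passes to coproducts. -/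
lemma BCs.sigma [QuasiCompact f] [QuasiSeparated f] [QuasiCompact f'] [QuasiSeparated f'] {J : Type u}
    (C : J → DCoh.D X) [HasCoproduct C] (hC : ∀ j, DCoh.IsQCohD (C j))
    (h : ∀ j, BCs f g f' g' (C j)) : BCs f g f' g' (∐ C) := by
  haveI : HasColimitsOfShape (Discrete J) (DCoh.D X) := TriCat.hasColimitsOfShape_derivedCategory
  haveI : HasColimitsOfShape (Discrete J) (DCoh.D S) := TriCat.hasColimitsOfShape_derivedCategory
  haveI : HasColimitsOfShape (Discrete J) (DCoh.D X') := TriCat.hasColimitsOfShape_derivedCategory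
  haveI : HasColimitsOfShape (Discrete J) (DCoh.D S') := TriCat.hasColimitsOfShape_derivedCategory
  intro n
  refine BC.of_iso (PreservesCoproduct.iso (shiftFunctor (DCoh.D X) n) C).symm ?_
  intro L R L' R' G G' eL eL' eG eG' a a' α
  let C' := fun j => (C j)⟦n⟧
  have hC' : ∀ j, DCoh.IsQCohD (C' j) := fun j => isQCohD_shift (hC j) n
  obtain ⟨eR⟩ := nonempty_right_iso eL a
  obtain ⟨eR'⟩ := nonempty_right_iso eL' a'
  obtain ⟨cg⟩ := nonempty_lpull_rpush_adj g
  obtain ⟨cg'⟩ := nonempty_lpull_rpush_adj g'
  haveI := preservesColimit_rpush (f := f) C' hC'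
  haveI : PreservesColimit (Discrete.functor C') R := preservesColimit_of_natIso _ eR.symm
  haveI : PreservesColimit (Discrete.functor C') G' :=
    preservesColimit_left (cg'.ofNatIsoLeft eG'.symm) C'
  have hG' : ∀ j, DCoh.IsQCohD (G'.obj (C' j)) := fun j =>
    isQCohD_of_iso (eG'.app _).symm (isQCohD_lpull g' (hC' j))
  haveI := preservesColimit_rpush (f := f') (fun j => G'.obj (C' j)) hG'
  haveI : PreservesColimit (Discrete.functor fun j => G'.obj (C' j)) R' :=
    preservesColimit_of_natIso _ eR'.symm
  haveI : PreservesColimit (Discrete.functor C' ⋙ R) G :=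
    haveI := preservesColimit_left (cg.ofNatIsoLeft eG.symm) fun j => R.obj (C' j)
    preservesColimit_of_iso_diagram G (Discrete.natIso fun _ => Iso.refl _ :
      Discrete.functor (fun j => R.obj (C' j)) ≅ Discrete.functor C' ⋙ R)
  haveI : PreservesColimit (Discrete.functor C' ⋙ G') R' :=
    preservesColimit_of_iso_diagram R' (Discrete.natIso fun _ => Iso.refl _ :
      Discrete.functor (fun j => G'.obj (C' j)) ≅ Discrete.functor C' ⋙ G')
  exact isIso_app_sigma (bcM a a' α.hom) C' fun j => h j n L R L' R' G G' eL eL' eG eG' a a' α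

/-- Base change for affine schemes, given the vanishing of the negative part. -/
theorem bc_affine [IsAffine X] [IsAffine S] [IsAffine S'] (H : IsPullback g' f' f g)
    (hTI : ∀ k : ℤ, ∀ i < k, IsZero (DCoh.HD ((DCoh.Lpull g).obj ((DCoh.Rpush f).obj (oD X k))) i))
    (E : DCoh.D X) (hE : DCoh.IsQCohD E) : BC f g f' g' E := by
  haveI : IsAffineHom f := inferInstance
  haveI : IsAffineHom f' := MorphismProperty.of_isPullback H inferInstance
  haveI : IsAffine X' := isAffine_of_isAffineHom f'
  let B := Γ(X, ⊤)
  let j := X.isoSpec.hom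
  haveI : PreservesFiniteLimits (tilde.functor B) := QCoh.tilde_preservesFiniteLimits (R := B)
  let T : DerivedCategory (ModuleCat.{u} B) ⥤ DCoh.D X := DCoh.tildeD B ⋙ rho j
  let Gx : CochainComplex (ModuleCat.{u} B) ℤ ⥤ CochainComplex X.Modules ℤ :=
    (tilde.functor B).mapHomologicalComplex (ComplexShape.up ℤ) ⋙ rCx j
  let eT : DerivedCategory.Q ⋙ T ≅ Gx ⋙ DerivedCategory.Q :=
    (Functor.associator _ _ _).symm ≪≫
      Functor.isoWhiskerRight (tilde.functor B).mapDerivedCategoryFactors _ ≪≫
      Functor.associator _ _ _ ≪≫ Functor.isoWhiskerLeft _ (rhoQ j) ≪≫ (Functor.associator _ _ _).symm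
  have hTq : ∀ M, DCoh.IsQCohD (T.obj M) := fun M => isQCohD_restrictD j (isQCohD_tildeD B M)
  let Pr : ObjectProperty (DerivedCategory (ModuleCat.{u} B)) := fun M => BCs f g f' g' (T.obj M)
  haveI : Pr.IsClosedUnderIsomorphisms := ⟨fun e h => h.of_iso (T.mapIso e)⟩
  have hall : ∀ M, Pr M := fun M => by
    refine derived_induction Pr
      (fun T₀ hT₀ h₁ h₂ => BCs.obj₃ _ (T.map_distinguished T₀ hT₀) h₁ h₂) (fun J K hK => ?_) (fun n => ?_) M
    · haveI : PreservesColimitsOfShape (Discrete J) Gx := by
        haveI : (tilde.functor B).IsLeftAdjoint := inferInstance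
        haveI : (Scheme.Modules.restrictFunctor j).IsLeftAdjoint :=
          (Scheme.Modules.restrictAdjunction j).isLeftAdjoint
        exact ⟨fun {K} => ⟨fun {c} hc => ⟨HomologicalComplex.isColimitOfEval _ _ fun m =>
          isColimitOfPreserves (HomologicalComplex.eval _ (ComplexShape.up ℤ) m ⋙
            tilde.functor B ⋙ Scheme.Modules.restrictFunctor j) hc⟩⟩⟩
      haveI : HasColimitsOfShape (Discrete J) (DCoh.D X) := TriCat.hasColimitsOfShape_derivedCategory
      haveI := preservesColimit_Q fun k => Gx.obj (K k)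
      refine BCs.of_iso (eT.app (∐ K) ≪≫ DerivedCategory.Q.mapIso
        (PreservesCoproduct.iso Gx K) ≪≫ PreservesCoproduct.iso DerivedCategory.Q _).symm ?_
      exact BCs.sigma _ (fun k => isQCohD_of_iso (eT.app (K k)) (hTq _))
        fun k => (hK k).of_iso (eT.app (K k))
    · let e : T.obj (DerivedCategory.Q.obj ((HomologicalComplex.single (ModuleCat.{u} B)
          (ComplexShape.up ℤ) n).obj (ModuleCat.of B B))) ≅ oD X n :=
        eT.app _ ≪≫ DerivedCategory.Q.mapIso
          ((rCx j).mapIso ((HomologicalComplex.singleMapHomologicalComplex (tilde.functor B) _ n).app _) ≪≫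
            (HomologicalComplex.singleMapHomologicalComplex (Scheme.Modules.restrictFunctor j) _ n).app _ ≪≫
            (HomologicalComplex.single X.Modules _ n).mapIso
              ((Scheme.Modules.restrictFunctor j).mapIso tildeSelf ≪≫ restrictStructureIso j)) ≪≫
          ((DerivedCategory.singleFunctorIsoCompQ X.Modules n).app _).symm
      refine BCs.of_iso e.symm fun m => BC.of_iso ?_ (bc_oD H (n - m) (hTI (n - m)))
      exact (((DerivedCategory.singleFunctors X.Modules).shiftIso m (n - m) n (by omega)).app _).symm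
  obtain ⟨M, ⟨eM⟩⟩ := exists_tildeD_iso (isQCohD_restrictD X.isoSpec.inv hE)
  refine ((hall M).of_iso ((rho j).mapIso eM ≪≫ rhoComp j X.isoSpec.inv (𝟙 X) X.isoSpec.hom_inv_id E ≪≫
    (rho (𝟙 X)).mapIso (repIso E).symm ≪≫ (rhoQ (𝟙 X)).app _ ≪≫
    DerivedCategory.Q.mapIso ((NatIso.mapHomologicalComplex (Scheme.Modules.restrictFunctorId (X := X))
      (ComplexShape.up ℤ) ≪≫ Functor.mapHomologicalComplexIdIso X.Modules (ComplexShape.up ℤ)).app _) ≪≫
    repIso E)).bc

end Groth.Agent.RBC
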