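import Groth.Agent.RBC.Main
import Groth.Prelude.Def_DCoh3

/-!
# Consequences of base change
-/

set_option autoImplicit false
set_option linter.style.haveILetI false
set_option backward.isDefEq.respectTransparency false
set_option backward.isDefEq.respectTransparency.types false

universe u

open CategoryTheory CategoryTheory.Limits AlgebraicGeometry

attribute [local instance] HasDerivedCategory.standard

noncomputable section

namespace Groth.Agent.RBC

open Groth.Agent.KFlatLib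

variable {X S X' S' : Scheme.{u}} {f : X ⟶ S} {g : S' ⟶ S} {f' : X' ⟶ S'} {g' : X' ⟶ X}

/-- The objects of the two composites are isomorphic. -/
theorem nonempty_bc_iso [DCoh.HasRpush f] [DCoh.HasRpush f'] [DCoh.HasLpull g] [DCoh.HasLpull g']
    (w : g' ≫ f = f' ≫ g) {E : DCoh.D X} (h : BC f g f' g' E) :
    Nonempty ((DCoh.Lpull g).obj ((DCoh.Rpush f).obj E) ≅ (DCoh.Rpush f').obj ((DCoh.Lpull g').obj E)) := by
  haveI := hasLpull f
  haveI := hasLpull f'
  obtain ⟨a⟩ := nonempty_lpull_rpush_adj f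
  obtain ⟨a'⟩ := nonempty_lpull_rpush_adj f'
  obtain ⟨α⟩ := nonempty_sq_iso f g f' g' w
  haveI := h _ _ _ _ _ _ (Iso.refl _) (Iso.refl _) (Iso.refl _) (Iso.refl _) a a' α
  exact ⟨asIso ((bcM a a' α.hom).app E)⟩

/-- The base change morphism is invertible for a suitable identification of the composites. -/
theorem exists_baseChangeApp [DCoh.HasRpush f] [DCoh.HasRpush g] [DCoh.HasLpull g] [DCoh.HasRpush f']
    [DCoh.HasRpush g'] [DCoh.HasLpull g'] (adjg : DCoh.Lpull g ⊣ DCoh.Rpush g)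
    (adjg' : DCoh.Lpull g' ⊣ DCoh.Rpush g') (w : g' ≫ f = f' ≫ g)
    (h : ∀ E : DCoh.D X, DCoh.IsQCohD E → BC f g f' g' E) :
    ∃ e : DCoh.Rpush g' ⋙ DCoh.Rpush f ≅ DCoh.Rpush f' ⋙ DCoh.Rpush g,
      ∀ E : DCoh.D X, DCoh.IsQCohD E → IsIso (DCoh.baseChangeApp adjg adjg' e E) := by
  haveI := hasLpull f
  haveI := hasLpull f'
  obtain ⟨a⟩ := nonempty_lpull_rpush_adj f
  obtain ⟨a'⟩ := nonempty_lpull_rpush_adj f'
  obtain ⟨α⟩ := nonempty_sq_iso f g f' g' w
  refine ⟨sqConj a a' adjg adjg' α, fun E hE => ?_⟩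
  have hi := h E hE _ _ _ _ _ _ (Iso.refl _) (Iso.refl _) (Iso.refl _) (Iso.refl _) a a' α
  have e := bcM_eq_transpose a a' adjg adjg' α E
  unfold DCoh.baseChangeApp
  erw [e]
  exact hi

end Groth.Agent.RBC
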