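import Groth.Agent.ConsPropLib.CoreProper
import Groth.Agent.LimSm.Flat

/-!
# Noetherian models of flat proper morphisms of finite presentation
-/

set_option autoImplicit false
set_option linter.style.haveILetI false

open CategoryTheory CategoryTheory.Limits AlgebraicGeometry Groth.Agent.MorLib Groth.Agent.MorLib.Desc
  Groth.Agent.ConsPropLib

universe u

namespace Groth.Agent.RBC

/-- A flat proper morphism of finite presentation to an affine scheme comes from one over a noetherian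
affine scheme. -/
theorem exists_flat_proper_model {X S : Scheme.{u}} [IsAffine S] (f : X ⟶ S)
    [LocallyOfFinitePresentation f] [IsProper f] [Flat f] :
    ∃ (S₁ X₁ : Scheme.{u}) (ρ : S ⟶ S₁) (f₁ : X₁ ⟶ S₁) (q : X ⟶ X₁),
      IsNoetherian S₁ ∧ IsAffine S₁ ∧ IsProper f₁ ∧ Flat f₁ ∧ IsPullback q f f₁ ρ := by
  obtain ⟨I, _, _, D, c, hc, e, hA, hN⟩ := exists_noetherian_limit S
  haveI := hA
  haveI : ∀ {i j : I} (f : i ⟶ j), IsAffineHom (D.map f) := fun f => isAffineHom_of_isAffine _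
  haveI : ∀ (i j : I) (f : i ⟶ j), IsAffineHom (D.map f) := fun i j f => isAffineHom_of_isAffine _
  obtain ⟨i, X₁, u₁, g₁, hX⟩ := hasModel hc (f ≫ e.inv)
  haveI := hX.lfp; haveI := hX.qc; haveI := hX.qs
  haveI := hX.compactSpace; haveI := hX.quasiSeparatedSpace
  haveI : MorphismProperty.RespectsIso (@Flat : MorphismProperty Scheme.{u}) :=
    MorphismProperty.IsStableUnderBaseChange.respectsIso
  have hp : IsProper (pullback.snd u₁ (c.π.app i)) :=
    of_two @IsProper hX.sq (IsPullback.of_hasPullback _ _) inferInstance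
  have hf : Flat (pullback.snd u₁ (c.π.app i)) :=
    of_two @Flat hX.sq (IsPullback.of_hasPullback _ _) inferInstance
  obtain ⟨a, φa, ha⟩ := ConsPropLib.core_isProper I D c hc (fun a b f => inferInstance) i (hA i) u₁
    inferInstance inferInstance hX.lfp hp
  obtain ⟨b, φb, hb⟩ := LimSm.core_flat I D c hc (fun a b f => inferInstance) i (hA i) u₁
    inferInstance inferInstance hX.lfp hf
  obtain ⟨j, α, β, -⟩ := IsCofilteredOrEmpty.cone_objs a b
  obtain ⟨k, γ, hγ⟩ : ∃ (k : I) (γ : k ⟶ j), γ ≫ α ≫ φa = γ ≫ β ≫ φb :=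
    ⟨_, IsCofiltered.eqHom (α ≫ φa) (β ≫ φb), IsCofiltered.eq_condition _ _⟩
  let φ : k ⟶ i := γ ≫ α ≫ φa
  have h1 : IsProper (pullback.snd u₁ (D.map φ)) := Desc.of_factor @IsProper ha
    (a := D.map (γ ≫ α)) (by rw [← D.map_comp, Category.assoc]) (IsPullback.of_hasPullback _ _)
  have h2 : Flat (pullback.snd u₁ (D.map φ)) := Desc.of_factor @Flat hb
    (a := D.map (γ ≫ β)) (by rw [← D.map_comp, Category.assoc, ← hγ]) (IsPullback.of_hasPullback _ _)
  exact ⟨D.obj k, _, e.inv ≫ c.π.app k, pullback.snd u₁ (D.map φ), hX.push φ, hN k, hA k, h1, h2,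
    (hX.pushed φ).sq.of_iso (Iso.refl _) (Iso.refl _) e (Iso.refl _) (by simp) (by simp) (by simp) (by simp)⟩

end Groth.Agent.RBC
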