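import Groth.Agent.DQGen.Compact
import Groth.Agent.DQGen.Approx
import Groth.Agent.DQGen.Vanish

/-!
# Perfect complexes are built from a detector
-/

set_option autoImplicit false
set_option linter.style.haveILetI false
set_option backward.isDefEq.respectTransparency false

universe u

open CategoryTheory CategoryTheory.Limits AlgebraicGeometry Pretriangulated TopologicalSpace

attribute [local instance] HasDerivedCategory.standard

namespace Groth.Agent.RBC

open Groth.Agent.KFlatLib Groth.Agent.DQGen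

variable {X : Scheme.{u}} [CompactSpace X] [QuasiSeparatedSpace X]

/-- A triangulated class of perfect objects containing a detector of `D_QCoh` and closed under
retracts contains every perfect object. -/
theorem perfect_of_detector (Ψ : ObjectProperty (DCoh.D X)) [Ψ.IsTriangulated]
    [Ψ.IsClosedUnderIsomorphisms] (hΨ : ∀ K, Ψ K → DCoh.IsPerfect K)
    (hret : ∀ {K R : DCoh.D X} (i : K ⟶ R) (r : R ⟶ K), i ≫ r = 𝟙 K → Ψ R → Ψ K)
    (G : DCoh.D X) (hG : Ψ G)
    (hdet : ∀ E, DCoh.IsQCohD E → (∀ (n : ℤ) (φ : G⟦n⟧ ⟶ E), φ = 0) → IsZero E)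
    {K : DCoh.D X} (hK : DCoh.IsPerfect K) : Ψ K := by
  obtain ⟨R, ψ, h, hR, e⟩ := exists_factor (PQ (⊥ : X.Opens)) Ψ (fun _ M => pq_sigma ⊥ M)
    (fun M => pq_sigma_nat ⊥ M) (fun c hc => (pq_bot_iff c).2 (isQCohD_of_isPerfect (hΨ c hc)))
    (fun c hc => compactIn_of_isPerfect ⊥ (hΨ c hc))
    (fun n : ULift.{u} ℤ => G⟦n.down⟧) (fun n => Ψ.le_shift n.down _ hG)
    (fun E hE h => hdet E hE.1 fun n φ => h ⟨n⟩ φ) (F := 𝟭 (DCoh.D X))
    (compactIn_of_isPerfect ⊥ hK) ((pq_bot_iff K).2 (isQCohD_of_isPerfect hK)) (𝟙 K)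
  exact hret ψ h e.symm hR

end Groth.Agent.RBC
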