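import Groth.Agent.RBC.Apps
import Groth.Agent.RBC.Model
import Groth.Agent.RBC.Thick
import Groth.Agent.PushAmp.Adjoint
import Groth.Agent.ProjPush.PushPC

/-!
# Derived direct images along flat proper morphisms of finite presentation
-/

set_option autoImplicit false
set_option linter.style.haveILetI false
set_option backward.isDefEq.respectTransparency false
set_option backward.isDefEq.respectTransparency.types false

universe u

open CategoryTheory CategoryTheory.Limits AlgebraicGeometry Pretriangulated TopologicalSpace ZeroObject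

attribute [local instance] HasDerivedCategory.standard

noncomputable section

namespace Groth.Agent.RBC

open Groth.Agent.KFlatLib Groth.Agent.DQGen

attribute [local instance] hasLpull hasRpush_scheme

variable {X S : Scheme.{u}}

/-- `Lf^*` commutes with shifts, objectwise. -/
lemma nonempty_lpull_shift (f : X ⟶ S) [DCoh.HasLpull f] (K : DCoh.D S) (n : ℤ) :
    Nonempty ((DCoh.Lpull f).obj (K⟦n⟧) ≅ ((DCoh.Lpull f).obj K)⟦n⟧) := by
  have hR : DCoh.IsKFlat ((repK K)⟦n⟧) := KFlat.shift (T := DCoh.tensorBi) (isKFlat_repK K) n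
  exact ⟨(DCoh.Lpull f).mapIso ((shiftFunctor _ n).mapIso (repKIso K).symm ≪≫
      ((DerivedCategory.Q.commShiftIso n).app (repK K)).symm) ≪≫ lpullIso f hR ≪≫
    DerivedCategory.Q.mapIso ((((pullCx f)).commShiftIso n).app (repK K)) ≪≫
    (DerivedCategory.Q.commShiftIso n).app _ ≪≫ (shiftFunctor _ n).mapIso (lpullRepIso f K)⟩

section Perfect

variable [CompactSpace S] [QuasiSeparatedSpace S] (f : X ⟶ S) [QuasiCompact f] [QuasiSeparated f]
  [DCoh.HasRpush f]

/-- Perfect objects with perfect derived direct image. -/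
def PushPerfect : ObjectProperty (DCoh.D X) := fun K =>
  DCoh.IsPerfect K ∧ DCoh.IsPerfect ((DCoh.Rpush f).obj K)

instance : (PushPerfect f).IsClosedUnderIsomorphisms where
  of_iso e h := ⟨isPerfect_of_iso e h.1, isPerfect_of_iso ((DCoh.Rpush f).mapIso e) h.2⟩

omit [CompactSpace S] [QuasiSeparatedSpace S] [QuasiCompact f] [QuasiSeparated f] in
lemma pp_of_isZero {K : DCoh.D X} (h : IsZero K) : IsZero ((DCoh.Rpush f).obj K) := by
  haveI := hasLpull f
  obtain ⟨adj⟩ := nonempty_lpull_rpush_adj f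
  haveI := adj.rightAdjoint_preservesLimits
  haveI : (DCoh.Rpush f).PreservesZeroMorphisms :=
    Functor.preservesZeroMorphisms_of_map_zero_object
      (IsTerminal.uniqueUpToIso (IsTerminal.isTerminalObj (DCoh.Rpush f) _
        (HasZeroObject.zeroIsTerminal)) HasZeroObject.zeroIsTerminal)
  exact (DCoh.Rpush f).map_isZero h

omit [CompactSpace S] [QuasiSeparatedSpace S] [QuasiCompact f] [QuasiSeparated f] in
lemma isPerfect_rpush_shift_one (K : DCoh.D X) :
    DCoh.IsPerfect ((DCoh.Rpush f).obj (K⟦(1 : ℤ)⟧)) ↔ DCoh.IsPerfect ((DCoh.Rpush f).obj K) := by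
  have hT := rot_of_distTriang _ (contractible_distinguished K)
  obtain ⟨c, hc⟩ := exists_rpush_triangle f _ hT
  have h0 : DCoh.IsPerfect ((DCoh.Rpush f).obj (0 : DCoh.D X)) :=
    isPerfect_of_isZero (pp_of_isZero f (isZero_zero _))
  simp only [isPerfect_iff] at h0 ⊢
  refine ⟨fun h => ?_, fun h => ?_⟩
  · exact (locSP_two_of_three _ hc).2.2 h0 h
  · exact (locSP_two_of_three _ hc).1 h h0

omit [CompactSpace S] [QuasiSeparatedSpace S] [QuasiCompact f] [QuasiSeparated f] in
lemma isPerfect_rpush_shift (n : ℤ) : ∀ (K : DCoh.D X),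
    DCoh.IsPerfect ((DCoh.Rpush f).obj (K⟦n⟧)) ↔ DCoh.IsPerfect ((DCoh.Rpush f).obj K) := by
  have iso : ∀ {A B : DCoh.D X}, (A ≅ B) → (DCoh.IsPerfect ((DCoh.Rpush f).obj A) ↔
      DCoh.IsPerfect ((DCoh.Rpush f).obj B)) := fun e =>
    ⟨isPerfect_of_iso ((DCoh.Rpush f).mapIso e), isPerfect_of_iso ((DCoh.Rpush f).mapIso e.symm)⟩
  induction n using Int.induction_on with
  | zero => exact fun K => iso ((shiftFunctorZero _ ℤ).app K)
  | succ k ih =>
    intro K
    exact (iso ((shiftFunctorAdd _ (k : ℤ) 1).app K)).trans ((isPerfect_rpush_shift_one f _).trans (ih K))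
  | pred k ih =>
    intro K
    exact (isPerfect_rpush_shift_one f _).symm.trans
      ((iso ((shiftFunctorAdd' _ (-(k : ℤ) - 1) 1 (-(k : ℤ)) (by omega)).app K).symm).trans (ih K))

instance : (PushPerfect f).IsTriangulated where
  exists_zero := ⟨0, isZero_zero _, isPerfect_of_isZero (isZero_zero _),
    isPerfect_of_isZero (pp_of_isZero f (isZero_zero _))⟩
  isStableUnderShiftBy n := ⟨fun K hK => ⟨(isPerfect_iff _).2 (((isPerfect_iff _).1 hK.1).shift n),
    (isPerfect_rpush_shift f n K).2 hK.2⟩⟩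
  toIsTriangulatedClosed₂ := .mk' fun T hT h₁ h₃ => by
    obtain ⟨c, hc⟩ := exists_rpush_triangle f T hT
    exact ⟨(isPerfect_iff _).2 ((locSP_two_of_three T hT).2.1 ((isPerfect_iff _).1 h₁.1)
      ((isPerfect_iff _).1 h₃.1)), (isPerfect_iff _).2 ((locSP_two_of_three _ hc).2.1
      ((isPerfect_iff _).1 h₁.2) ((isPerfect_iff _).1 h₃.2))⟩

end Perfect

/-- Over an affine base. -/
theorem isPerfect_rpush_affine [IsAffine S] (f : X ⟶ S) [IsProper f] [Flat f]
    [LocallyOfFinitePresentation f] [DCoh.HasRpush f] {K : DCoh.D X} (hK : DCoh.IsPerfect K) :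
    DCoh.IsPerfect ((DCoh.Rpush f).obj K) := by
  obtain ⟨S₁, X₁, ρ, f₁, q, hN, hA, hp, hfl, H⟩ := exists_flat_proper_model f
  haveI := hN
  haveI := hA
  haveI := hp
  haveI := hfl
  haveI : CompactSpace X := QuasiCompact.compactSpace_of_compactSpace f
  haveI : QuasiSeparatedSpace X := quasiSeparatedSpace_of_quasiSeparated f
  haveI : CompactSpace X₁ := QuasiCompact.compactSpace_of_compactSpace f₁
  haveI : QuasiSeparatedSpace X₁ := quasiSeparatedSpace_of_quasiSeparated f₁
  haveI : IsAffineHom ρ := inferInstance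
  haveI : IsAffineHom q := MorphismProperty.of_isPullback H.flip inferInstance
  obtain ⟨G₁, hG₁, hgen⟩ := exists_generator (X := X₁) (W := ⊥) (by simp)
  have hG : PushPerfect f ((DCoh.Lpull q).obj G₁) := by
    refine ⟨isPerfect_lpull q hG₁.1, ?_⟩
    obtain ⟨e⟩ := nonempty_bc_iso H.w (bc_of_flat_left H G₁ (isQCohD_of_isPerfect hG₁.1))
    exact isPerfect_of_iso e (isPerfect_lpull ρ (PushAmp.isPerfect_rpush_of_flat f₁ hG₁.1))
  refine (perfect_of_detector (PushPerfect f) (fun _ h => h.1) (fun i r hir h => ⟨?_, ?_⟩) _ hG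
    (fun E hE h => ?_) hK).2
  · exact isPerfect_of_retract i r hir h.1
  · exact isPerfect_of_retract ((DCoh.Rpush f).map i) ((DCoh.Rpush f).map r)
      (by rw [← Functor.map_comp, hir, CategoryTheory.Functor.map_id]) h.2
  obtain ⟨aq⟩ := nonempty_lpull_rpush_adj q
  refine isZero_of_rpush_isZero q hE ((hgen _ ((pq_bot_iff _).2 (isQCohD_rpush q hE))).2 fun n φ => ?_)
  obtain ⟨e⟩ := nonempty_lpull_shift q G₁ n
  apply (aq.homEquiv _ _).symm.injective
  rw [← cancel_epi e.inv, h n (e.inv ≫ (aq.homEquiv _ _).symm φ), h n (e.inv ≫ _)]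

/-- Derived direct images of perfect objects along flat proper morphisms of finite presentation. -/
theorem isPerfect_rpush_flat_proper (f : X ⟶ S) [IsProper f] [Flat f]
    [LocallyOfFinitePresentation f] [DCoh.HasRpush f] {K : DCoh.D X} (hK : DCoh.IsPerfect K) :
    DCoh.IsPerfect ((DCoh.Rpush f).obj K) := by
  refine (isPerfect_iff _).2 (LocSP.of_local fun s => ?_)
  obtain ⟨_, ⟨(U : S.Opens), hU, rfl⟩, hsU, -⟩ :=
    S.isBasis_affineOpens.exists_subset_of_mem_open (Set.mem_univ s) isOpen_univ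
  refine ⟨_, U.ι, inferInstance, ⟨⟨s, hsU⟩, rfl⟩, ?_⟩
  haveI : IsAffine (U : Scheme.{u}) := hU
  obtain ⟨e⟩ := nonempty_rpush_restrictD_iso f U
  haveI : IsProper (f ∣_ U) := IsZariskiLocalAtTarget.restrict ‹IsProper f› U
  haveI : Flat (f ∣_ U) := IsZariskiLocalAtTarget.restrict ‹Flat f› U
  haveI : LocallyOfFinitePresentation (f ∣_ U) :=
    IsZariskiLocalAtTarget.restrict ‹LocallyOfFinitePresentation f› U
  exact ((isPerfect_iff _).1 (isPerfect_of_iso (e.app K).symm
    (isPerfect_rpush_affine (f ∣_ U) (isPerfect_rho (f ⁻¹ᵁ U).ι hK))))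

/-- Derived direct images of pseudo-coherent objects along flat proper morphisms of finite
presentation. -/
theorem locPC_rpush_flat_proper (f : X ⟶ S) [IsProper f] [Flat f]
    [LocallyOfFinitePresentation f] [DCoh.HasRpush f] {E : DCoh.D X} (hE : ∀ m, LocPC m E) (m : ℤ) :
    LocPC m ((DCoh.Rpush f).obj E) := by
  refine LocPC.of_local fun s => ?_
  obtain ⟨_, ⟨(U : S.Opens), hU, rfl⟩, hsU, -⟩ :=
    S.isBasis_affineOpens.exists_subset_of_mem_open (Set.mem_univ s) isOpen_univ
  refine ⟨_, U.ι, inferInstance, ⟨⟨s, hsU⟩, rfl⟩, ?_⟩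
  haveI : IsAffine (U : Scheme.{u}) := hU
  haveI : IsProper (f ∣_ U) := IsZariskiLocalAtTarget.restrict ‹IsProper f› U
  haveI : Flat (f ∣_ U) := IsZariskiLocalAtTarget.restrict ‹Flat f› U
  haveI : LocallyOfFinitePresentation (f ∣_ U) :=
    IsZariskiLocalAtTarget.restrict ‹LocallyOfFinitePresentation f› U
  haveI : CompactSpace (f ⁻¹ᵁ U : Scheme.{u}) := QuasiCompact.compactSpace_of_compactSpace (f ∣_ U)
  haveI : QuasiSeparatedSpace (f ⁻¹ᵁ U : Scheme.{u}) :=
    quasiSeparatedSpace_of_quasiSeparated (f ∣_ U)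
  obtain ⟨e⟩ := nonempty_rpush_restrictD_iso f U
  refine LocPC.of_iso (e.app E).symm ?_
  let E' := (rho (f ⁻¹ᵁ U).ι).obj E
  have hE' : ∀ m, LocPC m E' := fun m => (hE m).restrict _
  have hq : DCoh.IsQCohD E' := ProjPush.isQCohD_of_locPC hE'
  obtain ⟨N, hN⟩ := PushAmp.exists_hd_bound (f ∣_ U)
  obtain ⟨r, hr⟩ := hasApprox (f ⁻¹ᵁ U : Scheme.{u}) ⊥ (by simp [IsRetrocompact])
  obtain ⟨P, α, hP, hα⟩ := (hr (m - N) E' hq (hE' _) fun i _ => by simp).exists_pcMap
  obtain ⟨C, a, b, hT⟩ := distinguished_cocone_triangle α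
  haveI : C.IsLE (m - N - 1) := (DerivedCategory.isLE_iff _ _).2 fun i hi =>
    isZero_obj₃_of_isPcMap hT hα i (by omega)
  have hCq : DCoh.IsQCohD C := isQCohD_obj₃ hT (isQCohD_of_isPerfect hP.1) hq
  obtain ⟨c', hc'⟩ := exists_rpush_triangle (f ∣_ U) _ hT
  refine ProjPush.locPC_of_isPcMap ((DCoh.Rpush (f ∣_ U)).map α) (isPerfect_rpush_affine (f ∣_ U) hP.1)
    (isPcMap_of_isZero_obj₃ hc' m fun i hi => ?_)
  exact hN C hCq (m - N - 1) inferInstance i (by omega)

end Groth.Agent.RBC
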