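import Groth.Agent.RBC.Proper
import Groth.Agent.PushAmp.RelFlatRep
import Groth.Agent.PushAmp.OverBaseLoc
import Groth.Agent.KFlatLib.Perfect.Criterion

/-!
# Direct images of relatively perfect objects
-/

set_option autoImplicit false
set_option linter.style.haveILetI false
set_option backward.isDefEq.respectTransparency false
set_option backward.isDefEq.respectTransparency.types false

universe u

open CategoryTheory CategoryTheory.Limits AlgebraicGeometry Pretriangulated TopologicalSpace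

attribute [local instance] HasDerivedCategory.standard

noncomputable section

namespace Groth.Agent.RBC

open Groth.Agent.KFlatLib Groth.Agent.DQGen

attribute [local instance] hasLpull hasRpush_scheme

variable {X S : Scheme.{u}}

lemma torAmpAt_mono (f : X ⟶ S) {F : CochainComplex X.Modules ℤ} {x : X} {a b a' b' : ℤ}
    (ha : a' ≤ a) (hb : b ≤ b') (h : DerSch.HasTorAmplitudeAt f a b F x) :
    DerSch.HasTorAmplitudeAt f a' b' F x := by
  obtain ⟨E, hz, hf, he⟩ := h
  exact ⟨E, fun i hi => hz i (by omega), hf, he⟩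

/-- A uniform interval on a quasi-compact scheme. -/
lemma exists_torAmplitude_of_locFinite [CompactSpace X] (f : X ⟶ S) {F : CochainComplex X.Modules ℤ}
    (h : DerSch.LocFiniteTorAmplitude f F) : ∃ a b : ℤ, a ≤ b ∧ DerSch.HasTorAmplitude f a b F := by
  classical
  choose V a b hxV hV using h
  obtain ⟨t, ht⟩ := isCompact_univ.elim_finite_subcover (fun x : X => (V x : Set X)) (fun x => (V x).2)
    (fun x _ => Set.mem_iUnion.2 ⟨x, hxV x⟩)
  obtain ⟨A, hA⟩ := (t.image a).finite_toSet.bddBelow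
  obtain ⟨B, hB⟩ := (t.image b).finite_toSet.bddAbove
  refine ⟨min A B, B, min_le_right _ _, fun x => ?_⟩
  obtain ⟨z, hz, hx⟩ := Set.mem_iUnion₂.1 (ht (Set.mem_univ x))
  exact torAmpAt_mono f ((min_le_left _ _).trans (hA (by simpa using ⟨z, hz, rfl⟩)))
    (hB (by simpa using ⟨z, hz, rfl⟩)) (hV z x hx)

/-- `Rf_*` of a relatively perfect object is perfect. -/
theorem isPerfect_rpush_relPerfect (f : X ⟶ S) [IsProper f] [Flat f] [LocallyOfFinitePresentation f]
    [DCoh.HasRpush f] {E : DCoh.D X} (hE : ∀ m, LocPC m E) (htor : DCoh.LocHasFiniteRelTorDim f E) :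
    DCoh.IsPerfect ((DCoh.Rpush f).obj E) := by
  refine (isPerfect_iff _).2 (LocSP.of_local fun s => ?_)
  obtain ⟨_, ⟨(U : S.Opens), hU, rfl⟩, hsU, -⟩ :=
    S.isBasis_affineOpens.exists_subset_of_mem_open (Set.mem_univ s) isOpen_univ
  refine ⟨_, U.ι, inferInstance, ⟨⟨s, hsU⟩, rfl⟩, ?_⟩
  haveI : IsAffine (U : Scheme.{u}) := hU
  haveI : CompactSpace (f ⁻¹ᵁ U : Scheme.{u}) := QuasiCompact.compactSpace_of_compactSpace (f ∣_ U)
  let F := DerivedCategory.Q.objPreimage E
  let W := (f ⁻¹ᵁ U).ι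
  let eF : DCoh.toD _ ((rCx W).obj F) ≅ (rho W).obj E :=
    ((rhoQ W).app F).symm ≪≫ (rho W).mapIso (repIso E)
  have hF : DerSch.LocFiniteTorAmplitude f F :=
    (PushAmp.locHasFiniteRelTorDim_iff f F (repIso E)).1 htor
  have hF' : DerSch.LocFiniteTorAmplitude (f ∣_ U) ((rCx W).obj F) := fun x => by
    obtain ⟨V, a, b, hxV, hV⟩ := hF (W.base x)
    refine ⟨W ⁻¹ᵁ V, a, b, hxV, fun x' hx' => (PushAmp.hasTorAmplitudeAt_comp_iff _ U.ι _ x' a b).1 ?_⟩
    rw [morphismRestrict_ι]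
    exact (PushAmp.hasTorAmplitudeAt_restrict_iff W f F x' a b).2 (hV _ hx')
  obtain ⟨a, b, hab, hamp⟩ := exists_torAmplitude_of_locFinite (f ∣_ U) hF'
  have hq : DCoh.IsQCohD (DCoh.toD _ ((rCx W).obj F)) :=
    isQCohD_of_iso eF.symm (isQCohD_rho W (ProjPush.isQCohD_of_locPC hE))
  obtain ⟨b', hb'⟩ := PushAmp.exists_flatAmplitude_rpush (f ∣_ U) _ hq a b hamp
  obtain ⟨e⟩ := nonempty_rpush_restrictD_iso f U
  let eR : (DCoh.Rpush (f ∣_ U)).obj (DCoh.toD _ ((rCx W).obj F)) ≅ (rho U.ι).obj ((DCoh.Rpush f).obj E) :=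
    (DCoh.Rpush (f ∣_ U)).mapIso eF ≪≫ (e.app E).symm
  have hpc := (locPC_rpush_flat_proper f hE (a - 1)).restrict U.ι
  have hflat : DCoh.HasFlatAmplitudeIn a (max a b') ((rho U.ι).obj ((DCoh.Rpush f).obj E)) := by
    obtain ⟨K, hv, hfl, ⟨eK⟩⟩ := hb'
    exact ⟨K, fun i hi => hv i (by omega), hfl, ⟨eK ≪≫ eR⟩⟩
  exact locSP_of_flat_pc (le_max_left _ _) hflat hpc

end Groth.Agent.RBC
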