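import Groth.Agent.RBC.Apps
import Groth.Agent.RBC.RelPerfPush
import Groth.Agent.KFlatLib.Scheme.RpushQCoh
import Groth.Agent.KFlatLib.Perfect.BettiCor
import Groth.Agent.QCoh.RpushGod
import Groth.Agent.ExtShX.Basic
import Groth.Prelude.Def_ClSub2

/-!
# Fibres of `Rf_* O` for flat proper morphisms with constant functions on the fibres
-/

set_option autoImplicit false
set_option linter.style.haveILetI false
set_option backward.isDefEq.respectTransparency false
set_option backward.isDefEq.respectTransparency.types false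
set_option maxHeartbeats 800000

universe u

open CategoryTheory CategoryTheory.Limits AlgebraicGeometry Pretriangulated TopologicalSpace Opposite

attribute [local instance] HasDerivedCategory.standard

noncomputable section

namespace Groth.Agent.RBC

open Groth.Agent.KFlatLib Groth.Agent.DQGen

attribute [local instance] hasLpull hasRpush_scheme

variable {X S : Scheme.{u}}

lemma isQCohD_oD' (Z : Scheme.{u}) (k : ℤ) : DCoh.IsQCohD (oD Z k) :=
  isQCohD_of_isPerfect (isPerfect_oD Z k)

lemma isZero_structureModule_imp {Z : Scheme.{u}} (h : IsZero (Coh.structureModule Z)) :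
    Subsingleton Γ(Z, ⊤) := by
  haveI := QCoh.subsingleton_Γ_of_isZero h (⊤ : Z.Opens)
  exact ‹Subsingleton Γ(Coh.structureModule Z, ⊤)›

/-- Fibre of `Rf_*O`, its cohomology in degrees `≤ 0`, and the unit. -/
theorem exists_unit_fibre (f : X ⟶ S) [IsProper f] [Flat f] [LocallyOfFinitePresentation f]
    (h : ∀ s : S, IsIso (f.fiberToSpecResidueField s).appTop) :
    ∃ u : oD S 0 ⟶ (DCoh.Rpush f).obj (oD X 0),
      ∀ s : S, (DCoh.Lpull (S.fromSpecResidueField s)).map u ≠ 0 ∧
        (∀ i : ℤ, i < 0 → IsZero (DCoh.HD ((DCoh.Lpull (S.fromSpecResidueField s)).obj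
          ((DCoh.Rpush f).obj (oD X 0))) i)) ∧
        Nonempty (DCoh.HD ((DCoh.Lpull (S.fromSpecResidueField s)).obj
          ((DCoh.Rpush f).obj (oD X 0))) 0 ≅ Coh.structureModule (Spec (S.residueField s))) := by
  obtain ⟨a⟩ := nonempty_lpull_rpush_adj f
  obtain ⟨φ⟩ := nonempty_lpull_oD f 0 (Iso.refl (DCoh.Lpull f))
  refine ⟨a.homEquiv _ _ φ.hom, fun s => ?_⟩
  let ι := S.fromSpecResidueField s
  let p := f.fiberToSpecResidueField s
  let g' := f.fiberι s
  have H : IsPullback g' p f ι := IsPullback.of_hasPullback f ι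
  haveI : IsProper p := inferInstanceAs (IsProper (pullback.snd f ι))
  obtain ⟨a'⟩ := nonempty_lpull_rpush_adj p
  obtain ⟨α⟩ := nonempty_sq_iso f ι p g' H.w
  haveI hbc : IsIso ((bcM a a' α.hom).app (oD X 0)) := bc_of_flat_left H (oD X 0) (isQCohD_oD' X 0)
    _ _ _ _ _ _ (Iso.refl _) (Iso.refl _) (Iso.refl _) (Iso.refl _) a a' α
  obtain ⟨w⟩ := nonempty_lpull_oD g' 0 (Iso.refl (DCoh.Lpull g'))
  have hfield : Function.Bijective p.appTop := (haveI : IsIso p.appTop := h s; ConcreteCategory.bijective_of_isIso p.appTop)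
  haveI : Nontrivial Γ(f.fiber s, ⊤) := by
    haveI : Nontrivial Γ(Spec (S.residueField s), ⊤) :=
      (Scheme.ΓSpecIso (S.residueField s)).commRingCatIsoToRingEquiv.toEquiv.nontrivial
    exact hfield.1.nontrivial
  have hne : ¬ IsZero (oD (f.fiber s) 0) := fun hz => by
    haveI := isZero_structureModule_imp
      (((DerivedCategory.homologyFunctor _ 0).map_isZero hz).of_iso
        ((DerivedCategory.singleFunctorCompHomologyFunctorIso _ 0).app
          (Coh.structureModule (f.fiber s))).symm)
    exact not_subsingleton Γ(f.fiber s, ⊤) ‹_›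
  let e : (DCoh.Lpull ι).obj ((DCoh.Rpush f).obj (oD X 0)) ≅ (DCoh.Rpush p).obj (oD (f.fiber s) 0) :=
    asIso ((bcM a a' α.hom).app (oD X 0)) ≪≫ (DCoh.Rpush p).mapIso w
  refine ⟨fun h0 => hne ?_, fun i hi => ?_, ?_⟩
  · haveI : (DCoh.Lpull p).Additive := additive_left a'
    let χ := α.hom.app (oD S 0) ≫ (DCoh.Lpull g').map φ.hom
    have h1 : (a'.homEquiv _ _).symm ((DCoh.Lpull ι).map (a.homEquiv _ _ φ.hom) ≫
        (bcM a a' α.hom).app (oD X 0)) = χ := by
      erw [a'.homEquiv_naturality_left_symm, homEquiv_symm_bcM]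
      have hn := α.hom.naturality (a.homEquiv _ _ φ.hom)
      simp only [Functor.comp_map] at hn
      erw [reassoc_of% hn]
      refine congrArg _ ?_
      rw [← Functor.map_comp]
      refine congrArg _ ?_
      exact ((a.homEquiv_counit (X := oD S 0) (Y := oD X 0) (g := a.homEquiv _ _ φ.hom)).symm.trans
        ((a.homEquiv _ _).symm_apply_apply φ.hom))
    rw [h0, zero_comp] at h1
    have h2 : χ = 0 := by
      rw [← h1, Adjunction.homEquiv_counit, Functor.map_zero, zero_comp]
    haveI : IsIso χ := inferInstance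
    refine IsZero.of_iso ?_ w.symm
    exact IsZero.of_epi_eq_zero χ h2
  · haveI : (oD (f.fiber s) 0).IsGE 0 := inferInstance
    haveI := isGE_rpush p (oD (f.fiber s) 0) 0
    exact (DerivedCategory.isZero_of_isGE ((DCoh.Rpush p).obj (oD (f.fiber s) 0)) 0 i hi).of_iso
      ((DerivedCategory.homologyFunctor _ i).mapIso e)
  · obtain ⟨e₀⟩ := nonempty_hd_rpush_single p (Coh.structureModule (f.fiber s)) 0
    haveI := QCoh.preservesFiniteLimits_push p
    haveI := SpObjSS.enoughInjectives_of_hasInjectiveResolutions (C := (f.fiber s).Modules)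
    haveI : IsIso (ClSub.unitToPush p) := by
      refine Scheme.Modules.Hom.isIso_iff_isIso_app.2 fun U => (ConcreteCategory.isIso_iff_bijective _).2 ?_
      haveI : Unique (Spec (S.residueField s)) :=
        inferInstanceAs (Unique (PrimeSpectrum (S.residueField s)))
      show Function.Bijective (p.app U)
      rcases eq_or_ne U ⊥ with rfl | hU
      · haveI : Subsingleton Γ(Spec (S.residueField s), (⊥ : (Spec (S.residueField s)).Opens)) := inferInstance
        haveI : Subsingleton Γ(f.fiber s, p ⁻¹ᵁ (⊥ : (Spec (S.residueField s)).Opens)) := by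
          rw [show p ⁻¹ᵁ (⊥ : (Spec (S.residueField s)).Opens) = ⊥ from rfl]
          infer_instance
        exact ⟨fun a b _ => Subsingleton.elim a b, fun b => ⟨0, Subsingleton.elim _ _⟩⟩
      · obtain rfl : U = ⊤ := by
          obtain ⟨t, ht⟩ := (Opens.ne_bot_iff_nonempty U).1 hU
          exact opens_eq_top t ht
        exact hfield
    exact ⟨(DerivedCategory.homologyFunctor _ 0).mapIso e ≪≫ e₀ ≪≫
      (Scheme.Modules.pushforward p).rightDerivedZeroIsoSelf.app _ ≪≫ (asIso (ClSub.unitToPush p)).symm⟩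

end Groth.Agent.RBC
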