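import Groth.Agent.RBC.Main
import Groth.Agent.RBC.Apps
import Groth.Agent.KFlatLib.Scheme.TildePull
import Groth.Agent.KFlatLib.Scheme.AffinePush
import Groth.Agent.KFlatLib.Ring.BaseChangeTor
import Groth.Agent.H6Perf.Tor
import Groth.Agent.RBC.Proper
import Groth.Prelude.Def_W4c1perfhdescPerf

/-!
# Tor independence of rings gives the vanishing behind base change
-/

set_option autoImplicit false
set_option linter.style.haveILetI false
set_option backward.isDefEq.respectTransparency false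
set_option backward.isDefEq.respectTransparency.types false
set_option maxHeartbeats 800000
set_option synthInstance.maxHeartbeats 400000

universe u

open CategoryTheory CategoryTheory.Limits AlgebraicGeometry Pretriangulated TopologicalSpace Opposite

attribute [local instance] HasDerivedCategory.standard

noncomputable section

namespace Groth.Agent.RBC

open Groth.Agent.KFlatLib Groth.Agent.DQGen

attribute [local instance] hasLpull hasRpush_scheme

/-- `L(Spec φ)^*` of a module without higher `Tor` has no cohomology outside degree `0`. -/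
theorem isZero_hd_lpull_tilde (R : Type u) [CommRing R] (R' : Type u) [CommRing R'] [Algebra R R']
    (N : ModuleCat.{u} R)
    (htor : ∀ p : ℕ, 1 ≤ p → IsZero (((Tor (ModuleCat.{u} R) p).obj N).obj (ModuleCat.of R R')))
    (i : ℤ) (hi : i ≠ 0) :
    IsZero (DCoh.HD ((DCoh.Lpull (Spec.map (CommRingCat.ofHom (algebraMap R R')))).obj
      (DCoh.inD (Spec (CommRingCat.of R)) ((tilde.functor (CommRingCat.of R)).obj N))) i) := by
  haveI : PreservesFiniteLimits (tilde.functor (CommRingCat.of R)) :=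
    QCoh.tilde_preservesFiniteLimits (R := CommRingCat.of R)
  haveI : PreservesFiniteLimits (tilde.functor (CommRingCat.of R')) :=
    QCoh.tilde_preservesFiniteLimits (R := CommRingCat.of R')
  let ρ := algebraMap R R'
  let g : CommRingCat.of R ⟶ CommRingCat.of R' := CommRingCat.ofHom ρ
  let f := Spec.map g
  let A := CommRingCat.of R
  let B := CommRingCat.of R'
  let tA := (tilde.functor A).mapHomologicalComplex (ComplexShape.up ℤ)
  let tB := (tilde.functor B).mapHomologicalComplex (ComplexShape.up ℤ)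
  let eC := (ModuleCat.extendScalars.{u, u, u} ρ).mapHomologicalComplex (ComplexShape.up ℤ)
  let P := ProjectiveResolution.of N
  haveI : PreservesFiniteColimits (tilde.functor A) := QCoh.tilde_preservesFiniteColimits
  haveI : PreservesFiniteColimits (tilde.functor B) := QCoh.tilde_preservesFiniteColimits
  haveI : PreservesFiniteColimits (ModuleCat.extendScalars.{u, u, u} ρ) := by
    haveI : (ModuleCat.extendScalars.{u, u, u} ρ).IsLeftAdjoint :=
      (ModuleCat.extendRestrictScalarsAdj ρ).isLeftAdjoint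
    infer_instance
  haveI : QuasiIso (eC.map P.π') :=
    quasiIso_map_π' _ P fun n hn => exactAt_extendScalars P n (htor n hn)
  haveI : QuasiIso (tA.map P.π') := inferInstance
  haveI : QuasiIso (tB.map (eC.map P.π')) := inferInstance
  have hflat : DRing.TermwiseFlat P.cochainComplex := fun j => by
    have hP : Projective (P.cochainComplex.X j) := inferInstance
    haveI : Module.Projective R (P.cochainComplex.X j) := (IsProjective.iff_projective _).2 hP
    exact Module.Flat.of_projective (R := R) (M := P.cochainComplex.X j)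
  have hK : DCoh.IsKFlat (tA.obj P.cochainComplex) :=
    isKFlat_tilde (R := A) P.cochainComplex (kFlat_of_termwiseFlat hflat (b := 0) fun j hj =>
      CochainComplex.isZero_of_isStrictlyLE P.cochainComplex 0 j hj)
  haveI := isIso_lpullComparison f hK
  let S₀ := (HomologicalComplex.single (ModuleCat.{u} R) (ComplexShape.up ℤ) 0).obj N
  haveI := isIso_Q_map (tA.map P.π') inferInstance
  haveI := isIso_Q_map (tB.map (eC.map P.π')) inferInstance
  let e₃ : (pullCx f).obj (tA.obj P.cochainComplex) ≅ tB.obj (eC.obj P.cochainComplex) :=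
    HomologicalComplex.Hom.isoOfComponents (fun n => (QCoh.tildePullbackIso g).app (P.cochainComplex.X n))
      (fun a b _ => ((QCoh.tildePullbackIso g).hom.naturality (P.cochainComplex.d a b)).symm)
  let F₀ := (HomologicalComplex.single (Spec B).Modules (ComplexShape.up ℤ) 0).obj
    ((tilde.functor B).obj ((ModuleCat.extendScalars.{u, u, u} ρ).obj N))
  let s : (DCoh.Lpull f).obj (DCoh.inD (Spec A) ((tilde.functor A).obj N)) ≅ DerivedCategory.Q.obj F₀ :=
    (DCoh.Lpull f).mapIso ((DerivedCategory.singleFunctorIsoCompQ (Spec A).Modules 0).app _ ≪≫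
      DerivedCategory.Q.mapIso
        ((HomologicalComplex.singleMapHomologicalComplex (tilde.functor A) (ComplexShape.up ℤ) 0).app N).symm ≪≫
      (asIso (DerivedCategory.Q.map (tA.map P.π'))).symm) ≪≫
    asIso ((lpullComparison f).app (tA.obj P.cochainComplex)) ≪≫ DerivedCategory.Q.mapIso e₃ ≪≫
    asIso (DerivedCategory.Q.map (tB.map (eC.map P.π'))) ≪≫
    DerivedCategory.Q.mapIso (tB.mapIso ((HomologicalComplex.singleMapHomologicalComplex
        (ModuleCat.extendScalars.{u, u, u} ρ) (ComplexShape.up ℤ) 0).app N) ≪≫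
      (HomologicalComplex.singleMapHomologicalComplex (tilde.functor B) (ComplexShape.up ℤ) 0).app _)
  exact (ShortComplex.isZero_homology_of_isZero_X₂ _
      (HomologicalComplex.isZero_single_obj_X (ComplexShape.up ℤ) 0 _ i hi)).of_iso
    ((DerivedCategory.homologyFunctor _ i).mapIso s ≪≫
      (DerivedCategory.homologyFunctorFactors _ i).app F₀)

variable {X S S' : Scheme.{u}}

/-- Affine morphisms push modules to modules. -/
lemma nonempty_rpush_inD (f : X ⟶ S) [IsAffineHom f] {M : X.Modules} (hM : Coh.IsQCoh M) :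
    Nonempty ((DCoh.Rpush f).obj (DCoh.inD X M) ≅ DCoh.inD S ((Scheme.Modules.pushforward f).obj M)) := by
  let C := (HomologicalComplex.single X.Modules (ComplexShape.up ℤ) 0).obj M
  let q := HomotopyCategory.quotient X.Modules (ComplexShape.up ℤ)
  let pC := (Scheme.Modules.pushforward f).mapHomologicalComplex (ComplexShape.up ℤ)
  haveI := isIso_unit_of_isAffineHom f C fun n => by
    rcases eq_or_ne n 0 with rfl | hn
    · exact KFlatLib.isQCoh_of_iso (HomologicalComplex.singleObjXSelf (ComplexShape.up ℤ) 0 M).symm hM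
    · exact isQCoh_of_isZero (HomologicalComplex.isZero_single_obj_X (ComplexShape.up ℤ) 0 _ n hn)
  let α := (DCoh.pushKh f).totalRightDerivedUnit DerivedCategory.Qh
    (HomotopyCategory.quasiIso X.Modules (ComplexShape.up ℤ))
  exact ⟨(DCoh.Rpush f).mapIso ((DerivedCategory.singleFunctorIsoCompQ X.Modules 0).app M ≪≫
      ((DerivedCategory.quotientCompQhIso _).app C).symm) ≪≫ (asIso (α.app (q.obj C))).symm ≪≫
    DerivedCategory.Qh.mapIso (((Scheme.Modules.pushforward f).mapHomotopyCategoryFactors _).app C) ≪≫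
    (DerivedCategory.quotientCompQhIso _).app (pC.obj C) ≪≫
    DerivedCategory.Q.mapIso
      ((HomologicalComplex.singleMapHomologicalComplex (Scheme.Modules.pushforward f) (ComplexShape.up ℤ) 0).app M) ≪≫
    ((DerivedCategory.singleFunctorIsoCompQ S.Modules 0).app _).symm⟩

/-- Tor independence over affine opens gives the vanishing, in degree `0`. -/
theorem isZero_hd_of_tor (f : X ⟶ S) (g : S' ⟶ S) {U : S.Opens} (hU : IsAffineOpen U) {W : S'.Opens}
    (hW : IsAffineOpen W) (hle : W ≤ g ⁻¹ᵁ U) {V : Scheme.{u}} [IsAffine V]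
    (j : V ⟶ (f ⁻¹ᵁ U : Scheme.{u})) [IsOpenImmersion j]
    (htor : ∀ (V₀ : X.Opens), IsAffineOpen V₀ → ∀ (hV : V₀ ≤ f ⁻¹ᵁ U) (p : ℕ), 0 < p →
      Subsingleton (@DRing.Tor Γ(S, U) _ p Γ(S', W) Γ(X, V₀) _ (g.appLE U W hle).hom.toModule _
        (f.appLE U V₀ hV).hom.toModule))
    (i : ℤ) (hi : i ≠ 0) :
    IsZero (DCoh.HD ((DCoh.Lpull (g.resLE U W hle)).obj ((DCoh.Rpush (j ≫ f ∣_ U)).obj (oD V 0))) i) := by
  haveI : IsAffine (U : Scheme.{u}) := hU
  letI : Algebra Γ(S, U) Γ(S', W) := (g.appLE U W hle).hom.toAlgebra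
  let R := Γ(S, U)
  let u : V ⟶ Spec R := (j ≫ f ∣_ U) ≫ hU.isoSpec.hom
  haveI : IsAffineHom u := inferInstance
  let k : V ⟶ X := j ≫ (f ⁻¹ᵁ U).ι
  let V₀ : X.Opens := k.opensRange
  have hV₀ : IsAffineOpen V₀ := isAffineOpen_opensRange k
  have hV : V₀ ≤ f ⁻¹ᵁ U := by
    rintro _ ⟨v, rfl⟩
    exact (j v).2
  have hk : (⊤ : V.Opens) ≤ k ⁻¹ᵁ V₀ := fun v _ => ⟨v, rfl⟩
  haveI : IsIso (k.appLE V₀ ⊤ hk) := by
    rw [Scheme.Hom.appLE]
    have hpre : k ⁻¹ᵁ V₀ = ⊤ := top_unique hk
    haveI : IsIso (k.app V₀) := k.isIso_app V₀ le_rfl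
    rw [show homOfLE hk = eqToHom hpre.symm from Subsingleton.elim _ _]
    infer_instance
  let ψ : R ⟶ Γ(V, ⊤) := f.appLE U V₀ hV ≫ k.appLE V₀ ⊤ hk
  have hu : u = V.isoSpec.hom ≫ Spec.map ψ := by
    rw [← cancel_mono hU.fromSpec]
    have e1 := IsAffineOpen.SpecMap_appLE_fromSpec f hU hV₀ hV
    have e2 := IsAffineOpen.SpecMap_appLE_fromSpec k hV₀ (isAffineOpen_top V) hk
    simp only [u, ψ, Spec.map_comp, Category.assoc, e1, IsAffineOpen.isoSpec_hom_fromSpec,
      morphismRestrict_ι, reassoc_of% e2, IsAffineOpen.fromSpec_top, Iso.hom_inv_id_assoc]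
    simp only [k, Category.assoc]
  have happ : ∀ r : R, u.appTop ((Scheme.ΓSpecIso R).inv r) = ψ r := fun r => by
    have h1 : (Scheme.ΓSpecIso R).inv ≫ (Spec.map ψ).appTop = ψ ≫ (Scheme.ΓSpecIso Γ(V, ⊤)).inv :=
      (Scheme.ΓSpecIso_inv_naturality ψ).symm
    have h2 : (Scheme.ΓSpecIso Γ(V, ⊤)).inv ≫ V.isoSpec.hom.appTop = 𝟙 _ := by
      rw [Scheme.isoSpec_hom, Scheme.toSpecΓ_appTop, Iso.inv_hom_id]
    have h3 : (Scheme.ΓSpecIso R).inv ≫ u.appTop = ψ := by
      rw [hu, Scheme.Hom.comp_appTop, ← Category.assoc, h1, Category.assoc, h2, Category.comp_id]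
    exact ConcreteCategory.congr_hom h3 r
  let O := Coh.structureModule V
  let M := (Scheme.Modules.pushforward u).obj O
  have hM : Coh.IsQCoh M := QCoh.isQCoh_pushforward u QCoh.isQCoh_structureModule
  haveI : IsIso M.fromTildeΓ := (isQuasicoherent_iff_isIso_fromTildeΓ _).1 hM
  let N : ModuleCat.{u} R := moduleSpecΓFunctor.obj M
  letI := (g.appLE U W hle).hom.toModule
  letI mV := (f.appLE U V₀ hV).hom.toModule
  let eN : ModuleCat.of R Γ(X, V₀) ≅ N := LinearEquiv.toModuleIso (LinearEquiv.ofBijective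
    ({ toFun := fun x => show Γ(V, ⊤) from k.appLE V₀ ⊤ hk x
       map_add' := fun a b => map_add (k.appLE V₀ ⊤ hk).hom a b
       map_smul' := fun r x => by
        show k.appLE V₀ ⊤ hk (f.appLE U V₀ hV r * x) =
          (u.appTop ((Scheme.ΓSpecIso R).inv r)) * (k.appLE V₀ ⊤ hk x)
        rw [happ, map_mul]
        rfl } : Γ(X, V₀) →ₗ[R] N) (ConcreteCategory.bijective_of_isIso (k.appLE V₀ ⊤ hk)))
  have hN : ∀ p : ℕ, 1 ≤ p → IsZero (((Tor (ModuleCat.{u} R) p).obj N).obj (ModuleCat.of R Γ(S', W))) := by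
    intro p hp
    haveI := htor V₀ hV₀ hV p hp
    refine IsZero.of_iso ?_ ((H9Misc.TorBalance.torSymm N (ModuleCat.of R Γ(S', W)) p) ≪≫
      ((Tor (ModuleCat.{u} R) p).obj (ModuleCat.of R Γ(S', W))).mapIso eN.symm)
    exact ModuleCat.isZero_of_subsingleton _
  have h0 := isZero_hd_lpull_tilde R Γ(S', W) N hN i hi
  obtain ⟨er⟩ := nonempty_rpush_inD u (M := O) QCoh.isQCoh_structureModule
  let φS := Spec.map (CommRingCat.ofHom (algebraMap Γ(S, U) Γ(S', W)))
  let K := (DCoh.Rpush (j ≫ f ∣_ U)).obj (oD V 0)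
  -- transport along the affine coordinates
  let eU := hU.isoSpec
  obtain ⟨cu⟩ := nonempty_rpush_comp u eU.inv
  obtain ⟨au⟩ := nonempty_lpull_rpush_adj eU.inv
  haveI := isIso_counit_of_open eU.inv (Iso.refl (DCoh.Lpull eU.inv)) au
  haveI : DCoh.HasRpush (u ≫ eU.inv) := hasRpush_scheme _
  have hcomp : u ≫ eU.inv = j ≫ f ∣_ U := by simp [u, eU]
  let e₁ : (DCoh.Lpull eU.inv).obj ((DCoh.Rpush (u ≫ eU.inv)).obj (oD V 0)) ≅
      DCoh.inD (Spec R) ((tilde.functor R).obj N) :=
    (DCoh.Lpull eU.inv).mapIso (cu.symm.app _) ≪≫ asIso (au.counit.app _) ≪≫ er ≪≫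
      (DerivedCategory.singleFunctor _ 0).mapIso (asIso M.fromTildeΓ).symm
  have hg : g.resLE U W hle = hW.isoSpec.hom ≫ φS ≫ eU.inv := by
    rw [← Category.assoc, Iso.eq_comp_inv, ← cancel_mono hU.fromSpec]
    simp only [φS, eU, Category.assoc, IsAffineOpen.isoSpec_hom_fromSpec, Scheme.Hom.resLE_comp_ι]
    erw [IsAffineOpen.SpecMap_appLE_fromSpec g hU hW hle]
    simp
  suffices h : IsZero (DCoh.HD ((DCoh.Lpull (g.resLE U W hle)).obj
      ((DCoh.Rpush (u ≫ eU.inv)).obj (oD V 0))) i) by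
    obtain ⟨ec⟩ : Nonempty ((DCoh.Rpush (j ≫ f ∣_ U)).obj (oD V 0) ≅
        (DCoh.Rpush (u ≫ eU.inv)).obj (oD V 0)) := by rw [← hcomp]; exact ⟨Iso.refl _⟩
    exact h.of_iso ((DerivedCategory.homologyFunctor _ i).mapIso ((DCoh.Lpull _).mapIso ec))
  obtain ⟨c₁⟩ := nonempty_lpull_comp' (h := hW.isoSpec.hom) (i := φS ≫ eU.inv) (k := g.resLE U W hle) hg.symm
  obtain ⟨c₂⟩ := nonempty_lpull_comp' (h := φS) (i := eU.inv) rfl
  exact (isZero_hd_lpull_of_flat hW.isoSpec.hom _ i h0).of_iso ((DerivedCategory.homologyFunctor _ i).mapIso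
    (c₁.symm.app _ ≪≫ (DCoh.Lpull hW.isoSpec.hom).mapIso (c₂.symm.app _ ≪≫ (DCoh.Lpull φS).mapIso e₁)))

/-- Tor independence of rings gives the condition for base change. -/
theorem ti_of_tor (f : X ⟶ S) (g : S' ⟶ S) {U : S.Opens} (hU : IsAffineOpen U) {W : S'.Opens}
    (hW : IsAffineOpen W) (hle : W ≤ g ⁻¹ᵁ U)
    (htor : ∀ (V₀ : X.Opens), IsAffineOpen V₀ → ∀ (hV : V₀ ≤ f ⁻¹ᵁ U) (p : ℕ), 0 < p →
      Subsingleton (@DRing.Tor Γ(S, U) _ p Γ(S', W) Γ(X, V₀) _ (g.appLE U W hle).hom.toModule _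
        (f.appLE U V₀ hV).hom.toModule)) :
    TI (f ∣_ U) (g.resLE U W hle) := by
  intro V hV j hj k i hi
  haveI := hV
  haveI := hj
  haveI : IsAffine (U : Scheme.{u}) := hU
  let h := j ≫ f ∣_ U
  haveI : IsAffineHom h := inferInstance
  obtain ⟨e₁⟩ := nonempty_rpush_shift h (oD V 0) (-k)
  obtain ⟨e₂⟩ := nonempty_lpull_shift (g.resLE U W hle) ((DCoh.Rpush h).obj (oD V 0)) (-k)
  let e₀ : oD V k ≅ (oD V 0)⟦-k⟧ :=
    (((DerivedCategory.singleFunctors V.Modules).shiftIso (-k) k 0 (by omega)).app _).symm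
  let H := DerivedCategory.homologyFunctor (W : Scheme.{u}).Modules
  refine (isZero_hd_of_tor f g hU hW hle j htor (i - k) (by omega)).of_iso
    ((H i).mapIso ((DCoh.Lpull _).mapIso ((DCoh.Rpush h).mapIso e₀ ≪≫ e₁) ≪≫ e₂) ≪≫
      ((H 0).shiftIso (-k) i (i - k) (by omega)).app _)

/-- Affine opens of perfect schemes. -/
lemma isPerf_app {p : ℕ} {Y : Scheme.{u}} (hY : PerfSch.IsPerfect p Y) (U : Y.Opens) :
    H6Perf.IsPerf p Γ(Y, U) := ⟨(hY U).1, (hY U).2⟩

end Groth.Agent.RBC
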