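import Groth.Agent.RBC.Endo
import Groth.Agent.PushAmp.RelFlat
import Groth.Agent.PushAmp.Adjoint
import Groth.Agent.PPSheaf.FlatPr

/-!
# The vanishing behind Tor independent base change
-/

set_option autoImplicit false
set_option linter.style.haveILetI false
set_option backward.isDefEq.respectTransparency false
set_option backward.isDefEq.respectTransparency.types false

universe u

open CategoryTheory CategoryTheory.Limits AlgebraicGeometry Pretriangulated TopologicalSpace

attribute [local instance] HasDerivedCategory.standard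

noncomputable section

namespace Groth.Agent.RBC

open Groth.Agent.KFlatLib

attribute [local instance] hasLpull hasRpush_scheme

variable {X S S' : Scheme.{u}}

/-- `Lg^* Rh_* O_V` has no cohomology below degree `0`, for every affine open `V` of `X`. -/
def TI (f : X ⟶ S) (g : S' ⟶ S) : Prop :=
  ∀ {V : Scheme.{u}}, IsAffine V → ∀ (j : V ⟶ X), IsOpenImmersion j → ∀ k : ℤ, ∀ i < k,
    IsZero (DCoh.HD ((DCoh.Lpull g).obj ((DCoh.Rpush (j ≫ f)).obj (oD V k))) i)

lemma TI.comp {f : X ⟶ S} {g : S' ⟶ S} (h : TI f g) {W : Scheme.{u}} (j : W ⟶ X) [IsOpenImmersion j] :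
    TI (j ≫ f) g := fun {V} hV i hi k => by
  haveI := hi
  simpa only [Category.assoc] using h hV (i ≫ j) inferInstance k

/-- Tor independence when the first morphism is flat. -/
theorem ti_of_flat_left [IsAffine S] (f : X ⟶ S) [Flat f] (g : S' ⟶ S) : TI f g := by
  intro V hV j hj k i hi
  haveI := hV
  haveI := hj
  haveI : Flat (j ≫ f) := inferInstance
  haveI : IsAffineHom (j ≫ f) := inferInstance
  let K := (HomologicalComplex.single V.Modules (ComplexShape.up ℤ) k).obj (Coh.structureModule V)
  let e : DCoh.toD V K ≅ oD V k := ((DerivedCategory.singleFunctorIsoCompQ V.Modules k).app _).symm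
  have hta : DerSch.HasTorAmplitude (j ≫ f) k k K :=
    PushAmp.hasTorAmplitude_of_flatOver _
      (fun m hm => HomologicalComplex.isZero_single_obj_X (ComplexShape.up ℤ) k _ m (by omega))
      fun m x => by
        rcases eq_or_ne m k with rfl | hm
        · haveI : Module.Flat _ ((DerSch.stalkOver (j ≫ f) x).obj (Coh.structureModule V)) :=
            PushAmp.isFlatOver_structureModule (j ≫ f) x
          change Module.Flat _ ((DerSch.stalkOver (j ≫ f) x).obj (K.X m) : Type u)
          exact Module.Flat.of_linearEquiv
            ((DerSch.stalkOver (j ≫ f) x).mapIso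
              (HomologicalComplex.singleObjXSelf (ComplexShape.up ℤ) m (Coh.structureModule V))).toLinearEquiv
        · haveI : Subsingleton ((DerSch.stalkOver (j ≫ f) x).obj (K.X m)) :=
            ModuleCat.subsingleton_of_isZero
              ((DerSch.stalkOver (j ≫ f) x).map_isZero
                (HomologicalComplex.isZero_single_obj_X (ComplexShape.up ℤ) k _ m hm))
          change Module.Flat _ ((DerSch.stalkOver (j ≫ f) x).obj (K.X m) : Type u)
          infer_instance
  obtain ⟨b', hb'⟩ := PushAmp.exists_flatAmplitude_rpush (j ≫ f) K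
    (isQCohD_of_iso e.symm (isQCohD_single QCoh.isQCoh_structureModule k)) k k hta
  obtain ⟨E, hE, -, ⟨eE⟩⟩ := flatAmplitude_lpull g hb'
  refine IsZero.of_iso ?_ ((DerivedCategory.homologyFunctor _ i).mapIso
    ((DCoh.Lpull g).mapIso ((DCoh.Rpush (j ≫ f)).mapIso e.symm) ≪≫ eE.symm) ≪≫
    (DerivedCategory.homologyFunctorFactors _ i).app E)
  exact ShortComplex.isZero_homology_of_isZero_X₂ _ (hE i (Or.inl hi))

/-- Flat pullback preserves vanishing of cohomology. -/
theorem isZero_hd_lpull_of_flat (g : S' ⟶ S) [Flat g] (K : DCoh.D S) (i : ℤ)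
    (h : IsZero (DCoh.HD K i)) : IsZero (DCoh.HD ((DCoh.Lpull g).obj K) i) := by
  haveI := PPSheaf.preservesFiniteLimits_pullback g
  haveI := (Scheme.Modules.pullbackPushforwardAdjunction g).leftAdjoint_preservesColimits
  haveI : PreservesFiniteColimits (Scheme.Modules.pullback g) := inferInstance
  have hex : (repK K).ExactAt i := (HomologicalComplex.exactAt_iff_isZero_homology _ i).2
    (h.of_iso (((DerivedCategory.homologyFunctorFactors _ i).app _).symm ≪≫
      (DerivedCategory.homologyFunctor _ i).mapIso (repKIso K)))
  have hex' : ((pullCx g).obj (repK K)).ExactAt i :=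
    ShortComplex.Exact.map hex (Scheme.Modules.pullback g)
  exact ((HomologicalComplex.exactAt_iff_isZero_homology _ i).1 hex').of_iso
    ((DerivedCategory.homologyFunctor _ i).mapIso (lpullRepIso g K).symm ≪≫
      (DerivedCategory.homologyFunctorFactors _ i).app _)

/-- Tor independence when the second morphism is flat. -/
theorem ti_of_flat_right (f : X ⟶ S) (g : S' ⟶ S) [Flat g] : TI f g := by
  intro V _ j _ k i hi
  exact isZero_hd_lpull_of_flat g _ i (isZero_hd_rpush_of_lt (j ≫ f) _ k i hi)

end Groth.Agent.RBC
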