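import Groth.Agent.RBC.AffineGen
import Groth.Agent.RBC.TI
import Groth.Agent.KFlatLib.Scheme.MVPush
import Groth.Agent.DQGen.Induction

/-!
# Tor independent base change for derived direct images
-/

set_option autoImplicit false
set_option linter.style.haveILetI false
set_option backward.isDefEq.respectTransparency false
set_option backward.isDefEq.respectTransparency.types false
set_option maxHeartbeats 800000
set_option synthInstance.maxHeartbeats 400000

universe u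

open CategoryTheory CategoryTheory.Limits AlgebraicGeometry Pretriangulated TopologicalSpace

attribute [local instance] HasDerivedCategory.standard

noncomputable section

namespace Groth.Agent.RBC

open Groth.Agent.KFlatLib Groth.Agent.DQGen

attribute [local instance] hasLpull hasRpush_scheme

variable {X S X' S' : Scheme.{u}}

/-- A cartesian square restricted to opens of the bases. -/
lemma isPullback_restrict {f : X ⟶ S} {g : S' ⟶ S} {f' : X' ⟶ S'} {g' : X' ⟶ X}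
    (H : IsPullback g' f' f g) {U : S.Opens} {W : S'.Opens} (hle : W ≤ g ⁻¹ᵁ U) :
    IsPullback (g'.resLE (f ⁻¹ᵁ U) (f' ⁻¹ᵁ W) (preimage_le H.w hle)) (f' ∣_ W) (f ∣_ U)
      (g.resLE U W hle) := by
  have h := (isPullback_morphismRestrict f' W).flip.paste_horiz H
  rw [← Scheme.Hom.resLE_comp_ι g' (preimage_le H.w hle), ← Scheme.Hom.resLE_comp_ι g hle] at h
  refine IsPullback.of_right h ?_ (isPullback_morphismRestrict f U).flip
  rw [← cancel_mono U.ι]
  simp only [Category.assoc, morphismRestrict_ι, Scheme.Hom.resLE_comp_ι, Scheme.Hom.resLE_comp_ι_assoc]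
  rw [H.w, morphismRestrict_ι_assoc]

/-- Base change holds for all morphisms from `Z` to affine schemes. -/
def QB (Z : Scheme.{u}) : Prop :=
  ∀ (S S' : Scheme.{u}), IsAffine S → IsAffine S' → ∀ (X' : Scheme.{u}) (f : Z ⟶ S),
    QuasiCompact f → QuasiSeparated f → ∀ (g : S' ⟶ S) (f' : X' ⟶ S') (g' : X' ⟶ Z),
      IsPullback g' f' f g → TI f g → ∀ E : DCoh.D Z, DCoh.IsQCohD E → BC f g f' g' E

lemma qb_affine (Z : Scheme.{u}) [IsAffine Z] : QB Z := by
  intro S S' hS hS' X' f _ _ g f' g' H hTI E hE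
  haveI := hS
  haveI := hS'
  refine bc_affine H (fun k i hi => ?_) E hE
  simpa only [Category.id_comp] using hTI inferInstance (𝟙 Z) inferInstance k i hi

/-- Base change along a quasi-compact open immersion, from affine targets. -/
lemma bc_ι (X : Scheme.{u}) [CompactSpace X] [QuasiSeparatedSpace X] (W : X.Opens)
    (hW : IsCompact (W : Set X)) (hQ : ∀ V : X.Opens, IsAffineOpen V → QB (W.ι ⁻¹ᵁ V : (W : Scheme.{u}).Opens))
    (g' : X' ⟶ X) (F : DCoh.D (W : Scheme.{u})) (hF : DCoh.IsQCohD F) :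
    BC W.ι g' (g' ⁻¹ᵁ W).ι (g' ∣_ W) F := by
  haveI : CompactSpace (W : Scheme.{u}) := isCompact_iff_compactSpace.1 hW
  haveI : QuasiCompact W.ι := quasiCompact_of_compactSpace W.ι
  have H : IsPullback (g' ∣_ W) (g' ⁻¹ᵁ W).ι W.ι g' := isPullback_morphismRestrict g' W
  refine bc_of_local H.w F fun s => ?_
  obtain ⟨_, ⟨(V : X.Opens), hV, rfl⟩, hsV, -⟩ :=
    X.isBasis_affineOpens.exists_subset_of_mem_open (Set.mem_univ (g'.base s)) isOpen_univ
  obtain ⟨_, ⟨(W' : X'.Opens), hW', rfl⟩, hsW', hle⟩ :=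
    X'.isBasis_affineOpens.exists_subset_of_mem_open (show s ∈ ((g' ⁻¹ᵁ V : X'.Opens) : Set X') from hsV)
      (g' ⁻¹ᵁ V).isOpen
  refine ⟨V, W', hle, hsW', ?_⟩
  haveI : IsAffine (V : Scheme.{u}) := hV
  haveI : IsAffine (W' : Scheme.{u}) := hW'
  refine hQ V hV _ _ inferInstance inferInstance _ _ inferInstance inferInstance _ _ _
    (isPullback_restrict H hle) (ti_of_flat_left _ _) _ ?_
  exact isQCohD_lpull _ hF

/-- Gluing two opens. -/
lemma qb_step (X : Scheme.{u}) [CompactSpace X] [QuasiSeparatedSpace X] (U V : X.Opens) (hUV : U ⊔ V = ⊤)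
    (hQ : ∀ W : X.Opens, W = U ∨ W = V ∨ W = U ⊓ V → IsCompact (W : Set X) ∧ QB W ∧
      ∀ O : X.Opens, IsAffineOpen O → QB (W.ι ⁻¹ᵁ O : (W : Scheme.{u}).Opens)) : QB X := by
  intro S S' hS hS' X' f hf hf' g f' g' H hTI E hE
  haveI := hS
  haveI := hS'
  haveI := hf
  haveI := hf'
  haveI : PreservesFiniteLimits (Scheme.Modules.restrictFunctor U.ι) := inferInstance
  obtain ⟨a, b, c, hT⟩ := exists_mvRpush_triangle U V hUV E
  have key : ∀ W : X.Opens, W = U ∨ W = V ∨ W = U ⊓ V →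
      BCs f g f' g' ((DCoh.Rpush W.ι).obj ((DCoh.restrictD W.ι).obj E)) := by
    intro W hW
    obtain ⟨hWc, hWQ, hWV⟩ := hQ W hW
    haveI : CompactSpace (W : Scheme.{u}) := isCompact_iff_compactSpace.1 hWc
    haveI : QuasiCompact W.ι := quasiCompact_of_compactSpace W.ι
    have key₀ : ∀ F : DCoh.D (W : Scheme.{u}), DCoh.IsQCohD F → BC f g f' g' ((DCoh.Rpush W.ι).obj F) := by
      intro F hF L R L' R' G G' eL eL' eG eG' a₁ a₁' α
      let j' := (g' ⁻¹ᵁ W).ι
      obtain ⟨b₁⟩ := nonempty_lpull_rpush_adj W.ι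
      obtain ⟨b₁'⟩ := nonempty_lpull_rpush_adj j'
      have Hj : IsPullback (g' ∣_ W) j' W.ι g' := isPullback_morphismRestrict g' W
      obtain ⟨β₀⟩ := nonempty_sq_iso W.ι g' j' (g' ∣_ W) Hj.w
      let β : G' ⋙ DCoh.Lpull j' ≅ DCoh.Lpull W.ι ⋙ DCoh.Lpull (g' ∣_ W) :=
        Functor.isoWhiskerRight eG' _ ≪≫ β₀
      have hj := bc_ι X W hWc hWV g' F hF (DCoh.Lpull W.ι) (DCoh.Rpush W.ι) (DCoh.Lpull j') (DCoh.Rpush j')
        G' (DCoh.Lpull (g' ∣_ W)) (Iso.refl _) (Iso.refl _) eG' (Iso.refl _) b₁ b₁' β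
      obtain ⟨e₁⟩ := nonempty_lpull_comp' (h := W.ι) (i := f) rfl
      obtain ⟨e₁'⟩ := nonempty_lpull_comp' (h := j') (i := f') rfl
      haveI : ∀ K, IsIso ((vPaste α.hom β.hom).app K) := fun K => by
        rw [vPaste_app]
        infer_instance
      haveI := NatIso.isIso_of_isIso_app (vPaste α.hom β.hom)
      have hc := hWQ S S' inferInstance inferInstance _ (W.ι ≫ f) inferInstance inferInstance g
        (j' ≫ f') (g' ∣_ W) (Hj.paste_vert H) (hTI.comp W.ι) F hF _ _ _ _ G (DCoh.Lpull (g' ∣_ W))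
        (Functor.isoWhiskerRight eL _ ≪≫ e₁) (Functor.isoWhiskerRight eL' _ ≪≫ e₁') eG (Iso.refl _)
        (a₁.comp b₁) (a₁'.comp b₁') (asIso (vPaste α.hom β.hom))
      have e := bcM_vPaste a₁ a₁' α.hom b₁ b₁' β.hom F
      haveI := hj
      have : IsIso ((bcM a₁ a₁' α.hom).app ((DCoh.Rpush W.ι).obj F) ≫
          R'.map ((bcM b₁ b₁' β.hom).app F)) := e ▸ hc
      exact (isIso_comp_right_iff _ _).1 this
    intro n
    have hq : DCoh.IsQCohD (((DCoh.restrictD W.ι).obj E)⟦n⟧) := isQCohD_shift (isQCohD_restrictD W.ι hE) n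
    haveI : (DQGen.adj W.ι).rightAdjointCommShift ℤ = (DQGen.adj W.ι).rightAdjointCommShift ℤ := rfl
    letI := (DQGen.adj W.ι).rightAdjointCommShift ℤ
    exact (key₀ _ hq).of_iso (((DCoh.Rpush W.ι).commShiftIso n).app _)
  have h₂ := BCs.biprod (key U (Or.inl rfl)) (key V (Or.inr (Or.inl rfl)))
  exact (BCs.obj₁ _ hT h₂ (key (U ⊓ V) (Or.inr (Or.inr rfl)))).bc

/-- Covered by `n` affine opens. -/
def Cov (n : ℕ) (Y : Scheme.{u}) : Prop :=
  ∃ U : Fin n → Y.Opens, (∀ i, IsAffineOpen (U i)) ∧ ⨆ i, U i = ⊤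

/-- Pulling a cover back to an open, when its traces are affine. -/
lemma cov_of_le {Y : Scheme.{u}} (W : Y.Opens) {n : ℕ} (U : Fin n → Y.Opens) (hW : W ≤ ⨆ i, U i)
    (hU : ∀ i, IsAffineOpen (W ⊓ U i)) : Cov n (W : Scheme.{u}) := by
  refine ⟨fun i => W.ι ⁻¹ᵁ U i, fun i => ?_, ?_⟩
  · rw [← Scheme.Hom.isAffineOpen_iff_of_isOpenImmersion W.ι, Scheme.Hom.image_preimage_eq_opensRange_inf,
      Scheme.Opens.opensRange_ι]
    exact hU i
  · refine top_unique fun y _ => ?_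
    obtain ⟨i, hi⟩ := Opens.mem_iSup.1 (hW y.2)
    exact Opens.mem_iSup.2 ⟨i, hi⟩

/-- Base change for quasi-compact separated schemes. -/
theorem qb_separated : ∀ (n : ℕ) (Y : Scheme.{u}), Y.IsSeparated → Cov n Y → QB Y := by
  intro n
  induction n with
  | zero =>
    rintro Y - ⟨U, -, hU⟩
    rw [iSup_of_empty] at hU
    haveI : IsEmpty Y := ⟨fun y => show y ∈ (⊥ : Y.Opens) from hU ▸ trivial⟩
    exact qb_affine Y
  | succ n ih =>
    rintro Y hY ⟨U, hU, hcov⟩
    haveI := hY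
    haveI : IsSeparated (terminal.from Y) := hY.isSeparated_terminal_from
    haveI : QuasiSeparatedSpace Y := quasiSeparatedSpace_of_quasiSeparated (terminal.from Y)
    haveI : CompactSpace Y := ⟨by
      have : (Set.univ : Set Y) = ⋃ i, (U i : Set Y) := by
        rw [← Opens.coe_iSup, hcov]; rfl
      rw [this]
      exact isCompact_iUnion fun i => (hU i).isCompact⟩
    let A : Y.Opens := ⨆ i : Fin n, U i.castSucc
    let V := U (Fin.last n)
    have hAV : A ⊔ V = ⊤ := top_unique fun y _ => by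
      obtain ⟨i, hi⟩ := Opens.mem_iSup.1 (show y ∈ ⨆ i, U i from hcov ▸ trivial)
      rcases Fin.eq_castSucc_or_eq_last i with ⟨k, rfl⟩ | rfl
      · exact Opens.mem_sup.2 (Or.inl (Opens.mem_iSup.2 ⟨k, hi⟩))
      · exact Opens.mem_sup.2 (Or.inr hi)
    have hAc : IsCompact (A : Set Y) := by
      rw [Opens.coe_iSup]
      exact isCompact_iUnion fun i => (hU _).isCompact
    have sep : ∀ {Z : Scheme.{u}} (j : Z ⟶ Y) [IsOpenImmersion j], Z.IsSeparated := fun {Z} j _ =>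
      ⟨by rw [← terminal.comp_from j]; infer_instance⟩
    have hsub : ∀ (W : Y.Opens), W ≤ A → (∀ i, IsAffineOpen (W ⊓ U (Fin.castSucc i))) → QB W :=
      fun W hWA hWU => ih _ (sep W.ι) (cov_of_le W _ hWA hWU)
    have hpre : ∀ (W : Y.Opens), W ≤ A → (∀ i, IsAffineOpen (W ⊓ U (Fin.castSucc i))) →
        ∀ O : Y.Opens, IsAffineOpen O → QB (W.ι ⁻¹ᵁ O : (W : Scheme.{u}).Opens) := fun W hWA hWU O hO => by
      refine ih _ (sep ((W.ι ⁻¹ᵁ O).ι ≫ W.ι)) (cov_of_le _ (fun i => W.ι ⁻¹ᵁ U (Fin.castSucc i))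
        (fun y _ => ?_) fun i => ?_)
      · obtain ⟨i, hi⟩ := Opens.mem_iSup.1 (hWA y.2)
        exact Opens.mem_iSup.2 ⟨i, hi⟩
      · rw [← Scheme.Hom.isAffineOpen_iff_of_isOpenImmersion W.ι,
          show W.ι ''ᵁ (W.ι ⁻¹ᵁ O ⊓ W.ι ⁻¹ᵁ U (Fin.castSucc i)) = O ⊓ (W ⊓ U (Fin.castSucc i)) from by
            rw [← Scheme.Hom.preimage_inf, Scheme.Hom.image_preimage_eq_opensRange_inf,
              Scheme.Opens.opensRange_ι, inf_left_comm]]
        exact hO.inf (hWU i)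
    refine qb_step Y A V hAV ?_
    have hA : ∀ i : Fin n, IsAffineOpen (A ⊓ U i.castSucc) := fun i => by
      rw [inf_eq_right.2 (le_iSup (fun k : Fin n => U k.castSucc) i)]
      exact hU _
    have hAV' : ∀ i : Fin n, IsAffineOpen ((A ⊓ V) ⊓ U i.castSucc) := fun i => by
      rw [inf_assoc, inf_comm V, ← inf_assoc, inf_eq_right.2 (le_iSup (fun k : Fin n => U k.castSucc) i)]
      exact (hU _).inf (hU _)
    rintro W (rfl | rfl | rfl)
    · exact ⟨hAc, hsub A le_rfl hA, hpre A le_rfl hA⟩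
    · haveI : IsAffine (V : Scheme.{u}) := hU _
      refine ⟨(hU _).isCompact, qb_affine _, fun O hO => ?_⟩
      haveI : IsAffine (V.ι ⁻¹ᵁ O : (V : Scheme.{u}).Opens) := by
        show IsAffineOpen (V.ι ⁻¹ᵁ O)
        rw [← Scheme.Hom.isAffineOpen_iff_of_isOpenImmersion V.ι,
          Scheme.Hom.image_preimage_eq_opensRange_inf, Scheme.Opens.opensRange_ι]
        exact (hU _).inf hO
      exact qb_affine _
    · refine ⟨QuasiSeparatedSpace.inter_isCompact _ _ A.2 hAc V.2 (hU _).isCompact, ?_, ?_⟩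
      · exact hsub _ inf_le_left hAV'
      · exact hpre _ inf_le_left hAV'

/-- Base change for quasi-compact quasi-separated schemes. -/
theorem qb_all (X : Scheme.{u}) [CompactSpace X] [QuasiSeparatedSpace X] : QB X := by
  refine qcqs_induction (fun Z hZ => @qb_affine Z hZ) (fun Z _ _ U V hUV hUc hV hQU hQV hQUV => ?_) X
  refine qb_step Z U V hUV ?_
  have pre : ∀ W : Z.Opens, IsCompact (W : Set Z) → ∀ O : Z.Opens, IsAffineOpen O →
      QB (W.ι ⁻¹ᵁ O : (W : Scheme.{u}).Opens) := fun W hW O hO => by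
    haveI : IsAffine (O : Scheme.{u}) := hO
    let e : (W.ι ⁻¹ᵁ O : Scheme.{u}) ⟶ (O : Scheme.{u}) := W.ι ∣_ O
    haveI : IsOpenImmersion e := inferInstance
    haveI : CompactSpace (W.ι ⁻¹ᵁ O : Scheme.{u}) := by
      refine isCompact_iff_compactSpace.1 ((W.ι.isOpenEmbedding.isEmbedding.isCompact_iff).2 ?_)
      have h := Scheme.Hom.image_preimage_eq_opensRange_inf W.ι O
      rw [Scheme.Opens.opensRange_ι] at h
      rw [show W.ι.base '' ((W.ι ⁻¹ᵁ O : (W : Scheme.{u}).Opens) : Set W) = ((W ⊓ O : Z.Opens) : Set Z) from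
        congrArg (fun T : Z.Opens => (T : Set Z)) h]
      exact QuasiSeparatedSpace.inter_isCompact _ _ W.2 hW O.2 hO.isCompact
    haveI : (W.ι ⁻¹ᵁ O : Scheme.{u}).IsSeparated := ⟨by rw [← terminal.comp_from e]; infer_instance⟩
    have hex : ∀ y : (W.ι ⁻¹ᵁ O : Scheme.{u}), ∃ A : (W.ι ⁻¹ᵁ O : Scheme.{u}).Opens,
        IsAffineOpen A ∧ y ∈ A := fun y => by
      obtain ⟨_, ⟨A, hA, rfl⟩, hy, -⟩ := (Scheme.isBasis_affineOpens
        (W.ι ⁻¹ᵁ O : Scheme.{u})).exists_subset_of_mem_open (Set.mem_univ y) isOpen_univ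
      exact ⟨A, hA, hy⟩
    choose A hA hyA using hex
    obtain ⟨t, ht⟩ := isCompact_univ.elim_finite_subcover
      (fun y => (A y : Set (W.ι ⁻¹ᵁ O : Scheme.{u}))) (fun y => (A y).2)
      (fun y _ => Set.mem_iUnion.2 ⟨y, hyA y⟩)
    refine qb_separated t.card _ inferInstance
      ⟨fun i => A (t.equivFin.symm i).1, fun i => hA _, top_unique fun y _ => ?_⟩
    obtain ⟨z, hz, hy⟩ := Set.mem_iUnion₂.1 (ht (Set.mem_univ y))
    exact Opens.mem_iSup.2 ⟨t.equivFin ⟨z, hz⟩, by simpa using hy⟩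
  rintro W (rfl | rfl | rfl)
  · exact ⟨hUc, hQU, pre _ hUc⟩
  · exact ⟨hV.isCompact, hQV, pre _ hV.isCompact⟩
  · have hc : IsCompact ((U ⊓ V : Z.Opens) : Set Z) :=
      QuasiSeparatedSpace.inter_isCompact _ _ U.2 hUc V.2 hV.isCompact
    exact ⟨hc, hQUV, pre _ hc⟩

/-- The base change map is invertible on `D_QCoh`, for quasi-compact quasi-separated morphisms and
squares that are locally Tor independent. -/
theorem bc_main {f : X ⟶ S} [QuasiCompact f] [QuasiSeparated f] {g : S' ⟶ S} {f' : X' ⟶ S'}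
    {g' : X' ⟶ X} (H : IsPullback g' f' f g)
    (hTI : ∀ (U : S.Opens) (W : S'.Opens) (hle : W ≤ g ⁻¹ᵁ U), IsAffineOpen U → IsAffineOpen W →
      TI (f ∣_ U) (g.resLE U W hle)) (E : DCoh.D X) (hE : DCoh.IsQCohD E) : BC f g f' g' E := by
  refine bc_of_local H.w E fun s => ?_
  obtain ⟨_, ⟨(U : S.Opens), hU, rfl⟩, hsU, -⟩ :=
    S.isBasis_affineOpens.exists_subset_of_mem_open (Set.mem_univ (g.base s)) isOpen_univ
  obtain ⟨_, ⟨(W : S'.Opens), hW, rfl⟩, hsW, hle⟩ :=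
    S'.isBasis_affineOpens.exists_subset_of_mem_open (show s ∈ ((g ⁻¹ᵁ U : S'.Opens) : Set S') from hsU)
      (g ⁻¹ᵁ U).isOpen
  refine ⟨U, W, hle, hsW, ?_⟩
  haveI : IsAffine (U : Scheme.{u}) := hU
  haveI : IsAffine (W : Scheme.{u}) := hW
  haveI : CompactSpace (f ⁻¹ᵁ U : Scheme.{u}) :=
    isCompact_iff_compactSpace.1 (f.isCompact_preimage hU.isCompact)
  haveI : QuasiSeparatedSpace (f ⁻¹ᵁ U : Scheme.{u}) :=
    quasiSeparatedSpace_of_quasiSeparated (f ∣_ U)
  exact qb_all _ _ _ inferInstance inferInstance _ _ inferInstance inferInstance _ _ _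
    (isPullback_restrict H hle) (hTI U W hle hU hW) _ (isQCohD_lpull _ hE)

theorem bc_of_flat_left {f : X ⟶ S} [QuasiCompact f] [QuasiSeparated f] [Flat f] {g : S' ⟶ S}
    {f' : X' ⟶ S'} {g' : X' ⟶ X} (H : IsPullback g' f' f g) (E : DCoh.D X) (hE : DCoh.IsQCohD E) :
    BC f g f' g' E :=
  bc_main H (fun U W hle hU hW => by
    haveI : IsAffine (U : Scheme.{u}) := hU
    haveI : Flat (f ∣_ U) := IsZariskiLocalAtTarget.restrict ‹Flat f› U
    intro V
    exact ti_of_flat_left (f ∣_ U) _) E hE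

theorem bc_of_flat_right {f : X ⟶ S} [QuasiCompact f] [QuasiSeparated f] {g : S' ⟶ S} [Flat g]
    {f' : X' ⟶ S'} {g' : X' ⟶ X} (H : IsPullback g' f' f g) (E : DCoh.D X) (hE : DCoh.IsQCohD E) :
    BC f g f' g' E :=
  bc_main H (fun U W hle _ _ => by
    haveI : Flat (g.resLE U W hle) := IsZariskiLocalAtSource.resLE hle ‹Flat g›
    intro V
    exact ti_of_flat_right _ (g.resLE U W hle)) E hE

end Groth.Agent.RBC
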