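import Groth.Agent.RBC.Sections
import Groth.Agent.KFlatLib.Scheme.LpullComp
import Groth.Agent.KFlatLib.Scheme.ProjFormula
import Groth.Agent.H23.ModLoc
import Groth.Agent.QCoh.Serre

/-!
# Derived pullback of endomorphisms of the structure module
-/

set_option autoImplicit false
set_option linter.style.haveILetI false
set_option backward.isDefEq.respectTransparency false
set_option backward.isDefEq.respectTransparency.types false

universe u

open CategoryTheory CategoryTheory.Limits AlgebraicGeometry Pretriangulated TopologicalSpace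

attribute [local instance] HasDerivedCategory.standard

noncomputable section

namespace Groth.Agent.RBC

open Groth.Agent.KFlatLib H23.ModLoc

variable {X S : Scheme.{u}}

/-- The endomorphism of `O[n]` given by a global function. -/
def smulD (n : ℤ) (s : Γ(S, ⊤)) : oD S n ⟶ oD S n :=
  (DerivedCategory.singleFunctor S.Modules n).map (QCoh.mulHom s)

lemma coeff_mulHom (s : Γ(S, ⊤)) : coeff (QCoh.mulHom s) = s := by
  show (1 : Γ(S, ⊤)) * S.presheaf.map (homOfLE le_top).op s = s
  rw [one_mul, show (homOfLE (le_top : (⊤ : S.Opens) ≤ ⊤)).op = 𝟙 _ from rfl, S.presheaf.map_id]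
  rfl

lemma eq_mulHom (e : Coh.structureModule S ⟶ Coh.structureModule S) : e = QCoh.mulHom (coeff e) :=
  coeff_injective (coeff_mulHom _).symm

lemma coeff_add (e e' : Coh.structureModule S ⟶ Coh.structureModule S) :
    coeff (e + e') = coeff e + coeff e' := rfl

lemma mulHom_add (s t : Γ(S, ⊤)) : QCoh.mulHom (s + t) = QCoh.mulHom s + QCoh.mulHom t :=
  coeff_injective (by simp only [coeff_add, coeff_mulHom])

lemma mulHom_mul (s t : Γ(S, ⊤)) : QCoh.mulHom (s * t) = QCoh.mulHom s ≫ QCoh.mulHom t :=
  coeff_injective (by simp only [coeff_comp, coeff_mulHom])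

lemma mulHom_one : QCoh.mulHom (1 : Γ(S, ⊤)) = 𝟙 (Coh.structureModule S) :=
  coeff_injective (by rw [coeff_mulHom, coeff_id])

lemma smulD_add (n : ℤ) (s t : Γ(S, ⊤)) : smulD n (s + t) = smulD n s + smulD n t := by
  simp only [smulD, mulHom_add, Functor.map_add]

lemma smulD_mul (n : ℤ) (s t : Γ(S, ⊤)) : smulD n (s * t) = smulD n s ≫ smulD n t := by
  simp only [smulD, mulHom_mul, Functor.map_comp]

lemma smulD_one (n : ℤ) : smulD (S := S) n 1 = 𝟙 _ := by
  simp only [smulD, mulHom_one, CategoryTheory.Functor.map_id]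

lemma smulD_comm (n : ℤ) (s t : Γ(S, ⊤)) : smulD n s ≫ smulD n t = smulD n t ≫ smulD n s := by
  rw [← smulD_mul, ← smulD_mul, mul_comm]

lemma exists_smulD_eq (n : ℤ) (φ : oD S n ⟶ oD S n) : ∃ s, smulD n s = φ := by
  obtain ⟨e, rfl⟩ := (DerivedCategory.singleFunctor S.Modules n).map_surjective φ
  exact ⟨coeff e, by rw [smulD, ← eq_mulHom]⟩

lemma smulD_injective (n : ℤ) : Function.Injective (smulD (S := S) n) := fun s t h => by
  rw [← coeff_mulHom s, ← coeff_mulHom t,
    (DerivedCategory.singleFunctor S.Modules n).map_injective h]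

/-- Pullback of an endomorphism of the structure module, through the canonical identification. -/
lemma pullback_mulHom (f : X ⟶ S) (s : Γ(S, ⊤)) :
    (Scheme.Modules.pullback f).map (QCoh.mulHom s) ≫
        SheafOfModules.pullbackObjUnitToUnit f.toRingCatSheafHom =
      SheafOfModules.pullbackObjUnitToUnit f.toRingCatSheafHom ≫ QCoh.mulHom (f.appTop s) := by
  let adj := Scheme.Modules.pullbackPushforwardAdjunction f
  have hu : adj.homEquiv _ _ (SheafOfModules.pullbackObjUnitToUnit f.toRingCatSheafHom) =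
      SheafOfModules.unitToPushforwardObjUnit f.toRingCatSheafHom :=
    SheafOfModules.pullbackPushforwardAdjunction_homEquiv_pullbackObjUnitToUnit f.toRingCatSheafHom
  apply (adj.homEquiv _ _).injective
  refine (adj.homEquiv_naturality_left _ _).trans
    (Eq.trans ?_ (adj.homEquiv_naturality_right _ _).symm)
  refine (congrArg (QCoh.mulHom s ≫ ·) hu).trans (Eq.trans ?_
    (congrArg (· ≫ (Scheme.Modules.pushforward f).map (QCoh.mulHom (f.appTop s))) hu).symm)
  refine Scheme.Modules.hom_ext _ _ fun U => ?_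
  ext (r : Γ(S, U))
  show f.app U (r * S.presheaf.map (homOfLE le_top).op s) =
    f.app U r * X.presheaf.map (homOfLE le_top).op (f.appTop s)
  rw [map_mul]
  refine congrArg (f.app U r * ·) ?_
  exact ConcreteCategory.congr_hom (f.naturality (homOfLE (le_top : U ≤ ⊤)).op) s

/-- `Lf^*` of a flat module in degree `n`, naturally. -/
def singleLpullNat (f : X ⟶ S) [DCoh.HasLpull f] (n : ℤ) :
    DerivedCategory.singleFunctor S.Modules n ⋙ DCoh.Lpull f ⟶
      Scheme.Modules.pullback f ⋙ DerivedCategory.singleFunctor X.Modules n :=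
  Functor.whiskerRight (DerivedCategory.singleFunctorIsoCompQ S.Modules n).hom _ ≫
    (Functor.associator _ _ _).hom ≫
    Functor.whiskerLeft _ (lpullComparison f) ≫ (Functor.associator _ _ _).inv ≫
    Functor.whiskerRight
      (HomologicalComplex.singleMapHomologicalComplex (Scheme.Modules.pullback f) _ n).hom _ ≫
    (Functor.associator _ _ _).hom ≫
    Functor.whiskerLeft _ (DerivedCategory.singleFunctorIsoCompQ X.Modules n).inv

lemma isIso_singleLpullNat (f : X ⟶ S) [DCoh.HasLpull f] (n : ℤ) {M : S.Modules}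
    (hM : FlatMod.IsFlat M) : IsIso ((singleLpullNat f n).app M) := by
  haveI := isIso_lpullComparison f (K := (HomologicalComplex.single S.Modules (ComplexShape.up ℤ) n).obj M)
    (isKFlat_of_isStrictlyLE _ n (isFlat_single n hM))
  haveI : IsIso ((lpullComparison f).app ((CochainComplex.singleFunctor S.Modules n).obj M)) :=
    this
  simp only [singleLpullNat, NatTrans.comp_app, Functor.whiskerRight_app, Functor.whiskerLeft_app]
  infer_instance

/-- `Lf^*` of `O[n]` is `O[n]`. -/
lemma nonempty_lpull_oD (f : X ⟶ S) [DCoh.HasLpull f] (n : ℤ) {L : DCoh.D S ⥤ DCoh.D X}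
    (eL : L ≅ DCoh.Lpull f) : Nonempty (L.obj (oD S n) ≅ oD X n) := by
  haveI := isIso_singleLpullNat f n (M := Coh.structureModule S) isFlat_structureModule
  haveI : IsIso (SheafOfModules.pullbackObjUnitToUnit f.toRingCatSheafHom) := inferInstance
  exact ⟨eL.app _ ≪≫ asIso ((singleLpullNat f n).app (Coh.structureModule S)) ≪≫
    (DerivedCategory.singleFunctor X.Modules n).mapIso
      (asIso (SheafOfModules.pullbackObjUnitToUnit f.toRingCatSheafHom))⟩

/-- `Lf^*` of multiplication by `s` is multiplication by its pullback, for any identification. -/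
theorem map_smulD (f : X ⟶ S) [DCoh.HasLpull f] (n : ℤ) {L : DCoh.D S ⥤ DCoh.D X}
    (eL : L ≅ DCoh.Lpull f) (w : L.obj (oD S n) ≅ oD X n) (s : Γ(S, ⊤)) :
    L.map (smulD n s) ≫ w.hom = w.hom ≫ smulD n (f.appTop s) := by
  haveI := isIso_singleLpullNat f n (M := Coh.structureModule S) isFlat_structureModule
  haveI : IsIso (SheafOfModules.pullbackObjUnitToUnit f.toRingCatSheafHom) := inferInstance
  let u := asIso (SheafOfModules.pullbackObjUnitToUnit f.toRingCatSheafHom)
  let w₀ : L.obj (oD S n) ≅ oD X n := eL.app _ ≪≫ asIso ((singleLpullNat f n).app (Coh.structureModule S)) ≪≫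
    (DerivedCategory.singleFunctor X.Modules n).mapIso u
  have h₀ : L.map (smulD n s) ≫ w₀.hom = w₀.hom ≫ smulD n (f.appTop s) := by
    have h₁ := eL.hom.naturality (smulD n s)
    have h₂ := (singleLpullNat f n).naturality (QCoh.mulHom s)
    simp only [Functor.comp_map] at h₂
    simp only [w₀, Iso.trans_hom, Iso.app_hom, asIso_hom, Functor.mapIso_hom, Category.assoc]
    erw [reassoc_of% h₁, reassoc_of% h₂]
    simp only [smulD, ← Functor.map_comp]
    exact congrArg (fun t => _ ≫ _ ≫ (DerivedCategory.singleFunctor X.Modules n).map t)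
      (pullback_mulHom f s)
  obtain ⟨c, hc⟩ := exists_smulD_eq n (w₀.inv ≫ w.hom)
  have hw : w.hom = w₀.hom ≫ smulD n c := by rw [hc, Iso.hom_inv_id_assoc]
  rw [hw, reassoc_of% h₀, smulD_comm, Category.assoc]

end Groth.Agent.RBC
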