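import Groth.Agent.RBC.Formal
import Groth.Agent.RBC.Endo
import Groth.Agent.DQGen.Vanish
import Groth.Agent.KFlatLib.Scheme.RpushUnbounded
import Groth.Agent.KFlatLib.Scheme.RpushCoprodQCoh
import Groth.Agent.HilbPtsRep.Loc
import Groth.Agent.InvX.Tensor
import Groth.Agent.DQGen.Compact
import Groth.Agent.H23.PullPush
import Groth.Agent.QCoh.VanIdeal
import Mathlib.CategoryTheory.Preadditive.Yoneda.Basic

/-!
# Base change for the structure module of affine schemes
-/

set_option autoImplicit false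
set_option linter.style.haveILetI false
set_option backward.isDefEq.respectTransparency false
set_option backward.isDefEq.respectTransparency.types false

universe u

open CategoryTheory CategoryTheory.Limits AlgebraicGeometry Pretriangulated TopologicalSpace Opposite
open scoped TensorProduct

attribute [local instance] HasDerivedCategory.standard

noncomputable section

namespace Groth.Agent.RBC

open Groth.Agent.KFlatLib Groth.Agent.DQGen

attribute [local instance] hasLpull hasRpush_scheme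

lemma isPerfect_oD (X : Scheme.{u}) (k : ℤ) : DCoh.IsPerfect (oD X k) := by
  refine (isPerfect_iff _).2 fun x => ⟨_, (⊤ : X.Opens).ι, inferInstance, ⟨⟨x, trivial⟩, rfl⟩,
    _, ?_, ⟨((rhoQ (⊤ : X.Opens).ι).app _).symm ≪≫ (rho (⊤ : X.Opens).ι).mapIso
      ((DerivedCategory.singleFunctorIsoCompQ X.Modules k).app (Coh.structureModule X)).symm⟩⟩
  refine isStrictlyPerfect_restrict _ ⟨⟨k, k, fun i hi =>
    HomologicalComplex.isZero_single_obj_X (ComplexShape.up ℤ) k _ i (by omega)⟩, fun i => ?_⟩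
  rcases eq_or_ne i k with h | h
  · subst h
    exact H23.PullPush.isFinLocFree_of_iso
      (HomologicalComplex.singleObjXSelf (ComplexShape.up ℤ) i _).symm
      (H23.PullPush.isFinLocFree_of_isInvertible InvX.isInvertible_structureModule)
  · exact isFinLocFree_of_isZero (HomologicalComplex.isZero_single_obj_X (ComplexShape.up ℤ) k _ i h)

/-- Left adjoints between derived categories are additive. -/
lemma additive_left {A B : Type*} [Category A] [Category B] [Preadditive A] [Preadditive B]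
    [HasBinaryBiproducts A] {L : A ⥤ B} {R : B ⥤ A} (a : L ⊣ R) : L.Additive := by
  haveI := a.isLeftAdjoint
  haveI : L.PreservesZeroMorphisms := inferInstance
  haveI : PreservesColimitsOfShape (Discrete WalkingPair) L := inferInstance
  haveI := preservesBinaryBiproducts_of_preservesBinaryCoproducts L
  exact Functor.additive_of_preservesBinaryBiproducts L

lemma isQCohD_oD (X : Scheme.{u}) [IsAffine X] (k : ℤ) : DCoh.IsQCohD (oD X k) :=
  isQCohD_single QCoh.isQCoh_structureModule k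

lemma subsingleton_oD_oD (X : Scheme.{u}) [IsAffine X] {n k : ℤ} (h : n ≠ k) :
    Subsingleton (oD X n ⟶ oD X k) := by
  refine subsingleton_hom_oD (isQCohD_oD X k) n ?_
  rcases lt_or_gt_of_ne h with h | h
  · exact DerivedCategory.isZero_of_isGE _ k n h
  · exact DerivedCategory.isZero_of_isLE _ k n h

/-- Exactness of maps out of a fixed object. -/
lemma hom_exact {𝒞 : Type*} [Category 𝒞] [Preadditive 𝒞] [HasShift 𝒞 ℤ] [∀ n : ℤ, (shiftFunctor 𝒞 n).Additive]
    [HasZeroObject 𝒞] [Pretriangulated 𝒞] {T : Triangle 𝒞} (hT : T ∈ distTriang 𝒞) {A : 𝒞}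
    (y : A ⟶ T.obj₂) (hy : y ≫ T.mor₂ = 0) : ∃ z : A ⟶ T.obj₁, y = z ≫ T.mor₁ :=
  Triangle.coyoneda_exact₂ T hT y hy

variable {X S X' S' : Scheme.{u}} {f : X ⟶ S} {g : S' ⟶ S} {f' : X' ⟶ S'} {g' : X' ⟶ X}

/-- Base change at the shifts of the structure module of an affine scheme. -/
theorem bc_oD [IsAffine X] [IsAffine S] [IsAffine S'] (H : IsPullback g' f' f g) (k : ℤ)
    (hTI : ∀ i < k, IsZero (DCoh.HD ((DCoh.Lpull g).obj ((DCoh.Rpush f).obj (oD X k))) i)) :
    BC f g f' g' (oD X k) := by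
  haveI : IsAffineHom f := inferInstance
  haveI : IsAffineHom f' := MorphismProperty.of_isPullback H inferInstance
  haveI : IsAffine X' := isAffine_of_isAffineHom f'
  intro L R L' R' G G' eL eL' eG eG' a a' α
  obtain ⟨eR⟩ := nonempty_right_iso eL a
  obtain ⟨eR'⟩ := nonempty_right_iso eL' a'
  obtain ⟨cg⟩ := nonempty_lpull_rpush_adj g
  obtain ⟨cg'⟩ := nonempty_lpull_rpush_adj g'
  let ag := cg.ofNatIsoLeft eG.symm
  let ag' := cg'.ofNatIsoLeft eG'.symm
  haveI : G.Additive := additive_left ag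
  haveI : G'.Additive := additive_left ag'
  haveI : L'.Additive := additive_left a'
  haveI := ag.leftAdjoint_preservesColimits.{u, u}
  obtain ⟨u⟩ := nonempty_lpull_oD f k eL
  obtain ⟨u'⟩ := nonempty_lpull_oD f' k eL'
  obtain ⟨v⟩ := nonempty_lpull_oD g k eG
  obtain ⟨w⟩ := nonempty_lpull_oD g' k eG'
  have hX : DCoh.IsQCohD (oD X k) := isQCohD_oD X k
  have hRO : DCoh.IsQCohD (R.obj (oD X k)) :=
    isQCohD_of_iso (eR.app _).symm (isQCohD_rpush f hX)
  have hN : DCoh.IsQCohD (G.obj (R.obj (oD X k))) :=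
    isQCohD_of_iso (eG.app _).symm (isQCohD_lpull g hRO)
  have hM : DCoh.IsQCohD (R'.obj (G'.obj (oD X k))) :=
    isQCohD_of_iso (eR'.app _).symm (isQCohD_rpush f' (isQCohD_of_iso w.symm (isQCohD_oD X' k)))
  -- concentration
  have subR : ∀ n, n ≠ k → Subsingleton (oD S n ⟶ R.obj (oD X k)) := fun n hn => by
    obtain ⟨un⟩ := nonempty_lpull_oD f n eL
    haveI := subsingleton_oD_oD X hn
    exact ((a.homEquiv _ _).symm.trans (un.homCongr (Iso.refl _))).subsingleton
  haveI hROle : (R.obj (oD X k)).IsLE k := (DerivedCategory.isLE_iff _ _).2 fun n hn =>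
    isZero_hd_of_subsingleton hRO n (subR n (by omega))
  have subM : ∀ n, n ≠ k → Subsingleton (oD S' n ⟶ R'.obj (G'.obj (oD X k))) := fun n hn => by
    obtain ⟨un⟩ := nonempty_lpull_oD f' n eL'
    haveI := subsingleton_oD_oD X' hn
    exact ((a'.homEquiv _ _).symm.trans (un.homCongr w)).subsingleton
  have subN : ∀ n, n ≠ k → Subsingleton (oD S' n ⟶ G.obj (R.obj (oD X k))) := fun n hn => by
    refine subsingleton_hom_oD hN n ?_
    rcases lt_or_gt_of_ne hn with h | h
    · exact (hTI n h).of_iso ((DerivedCategory.homologyFunctor _ n).mapIso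
        (eG.app _ ≪≫ (DCoh.Lpull g).mapIso (eR.app _)))
    · haveI := isLE_lpull g (R.obj (oD X k)) k
      exact (DerivedCategory.isZero_of_isLE ((DCoh.Lpull g).obj (R.obj (oD X k))) k n h).of_iso
        ((DerivedCategory.homologyFunctor _ n).mapIso (eG.app _))
  refine isIso_of_bijective_oD hN hM ((bcM a a' α.hom).app (oD X k)) fun n => ?_
  by_cases hn : n = k
  swap
  · haveI := subN n hn
    haveI := subM n hn
    exact ⟨fun x y _ => Subsingleton.elim x y, fun z => ⟨0, Subsingleton.elim _ _⟩⟩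
  subst hn
  -- sections of the direct image
  let x : Γ(X, ⊤) → (oD S n ⟶ R.obj (oD X n)) := fun b => a.homEquiv _ _ (u.hom ≫ smulD n b)
  have hx : ∀ z, ∃ b, x b = z := fun z => by
    obtain ⟨b, hb⟩ := exists_smulD_eq n (u.inv ≫ (a.homEquiv _ _).symm z)
    exact ⟨b, by simp only [x, hb, Iso.hom_inv_id_assoc, Equiv.apply_symm_apply]⟩
  have hxs : ∀ (s : Γ(S, ⊤)) b, x (f.appTop s * b) = smulD n s ≫ x b := fun s b => by
    simp only [x, ← a.homEquiv_naturality_left, smulD_mul, reassoc_of% (map_smulD f n eL u s)]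
  haveI : L.Additive := additive_left a
  haveI : R.Additive := a.right_adjoint_additive
  have hxadd : ∀ b b', x (b + b') = x b + x b' := fun b b' => by
    simp only [x, smulD_add, Preadditive.comp_add, Adjunction.homEquiv_unit, Functor.map_add]
  let m : Γ(S', ⊤) → Γ(X, ⊤) → (oD S' n ⟶ G.obj (R.obj (oD X n))) := fun a₀ b =>
    smulD n a₀ ≫ v.inv ≫ G.map (x b)
  letI : Algebra Γ(S, ⊤) Γ(S', ⊤) := g.appTop.hom.toAlgebra
  letI : Algebra Γ(S, ⊤) Γ(X, ⊤) := f.appTop.hom.toAlgebra
  have hbal : ∀ (s : Γ(S, ⊤)) a₀ b, m (g.appTop s * a₀) b = m a₀ (f.appTop s * b) := fun s a₀ b => by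
    have hv : smulD n (g.appTop s) ≫ v.inv = v.inv ≫ G.map (smulD n s) := by
      rw [Iso.eq_inv_comp, ← Category.assoc, ← map_smulD g n eG v s, Category.assoc, Iso.hom_inv_id,
        Category.comp_id]
    simp only [m, hxs, Functor.map_comp]
    rw [smulD_mul, smulD_comm, Category.assoc, reassoc_of% hv]
  let μ : Γ(S', ⊤) ⊗[Γ(S, ⊤)] Γ(X, ⊤) →+ (oD S' n ⟶ G.obj (R.obj (oD X n))) :=
    TensorProduct.liftAddHom
      (AddMonoidHom.mk' (fun a₀ => AddMonoidHom.mk' (m a₀) (fun b b' => by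
          simp only [m, hxadd, Functor.map_add, Preadditive.comp_add]))
        (fun a₀ a₁ => AddMonoidHom.ext fun b => by
          simp only [m, AddMonoidHom.mk'_apply, AddMonoidHom.add_apply, smulD_add, Preadditive.add_comp]))
      (fun s a₀ b => hbal s a₀ b)
  have hμ : ∀ a₀ b, μ (a₀ ⊗ₜ b) = smulD n a₀ ≫ v.inv ≫ G.map (x b) := fun _ _ =>
    TensorProduct.liftAddHom_tmul _ _ _ _
  -- the composite on simple tensors
  let Ψ : (oD S' n ⟶ G.obj (R.obj (oD X n))) → (oD X' n ⟶ oD X' n) := fun y =>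
    u'.inv ≫ (a'.homEquiv _ _).symm (y ≫ (bcM a a' α.hom).app (oD X n)) ≫ w.hom
  obtain ⟨c, hc⟩ := exists_smulD_eq n
    (u'.inv ≫ L'.map v.inv ≫ α.hom.app (oD S n) ≫ G'.map u.hom ≫ w.hom)
  obtain ⟨d, hd⟩ := exists_smulD_eq n
    (w.inv ≫ G'.map u.inv ≫ α.inv.app (oD S n) ≫ L'.map v.hom ≫ u'.hom)
  have hcd : c * d = 1 := smulD_injective n (by
    rw [smulD_mul, hc, hd, smulD_one]
    simp [← Functor.map_comp_assoc])
  have hΨ : ∀ a₀ b, Ψ (smulD n a₀ ≫ v.inv ≫ G.map (x b)) =
      smulD n (f'.appTop a₀ * c * g'.appTop b) := fun a₀ b => by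
    have h1 : L'.map (smulD n a₀) = u'.hom ≫ smulD n (f'.appTop a₀) ≫ u'.inv := by
      rw [← Category.assoc, ← map_smulD f' n eL' u' a₀, Category.assoc, Iso.hom_inv_id, Category.comp_id]
    have h2 : G'.map (smulD n b) ≫ w.hom = w.hom ≫ smulD n (g'.appTop b) :=
      map_smulD g' n eG' w b
    have h3 : L.map (x b) ≫ a.counit.app (oD X n) = u.hom ≫ smulD n b :=
      (Adjunction.homEquiv_counit _ _ _ _).symm.trans (Equiv.symm_apply_apply _ _)
    have hα := α.hom.naturality (x b)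
    simp only [Functor.comp_map] at hα
    simp only [Ψ, a'.homEquiv_naturality_left_symm]
    erw [homEquiv_symm_bcM]
    simp only [Functor.map_comp, Category.assoc, h1]
    erw [reassoc_of% hα]
    rw [← Functor.map_comp_assoc, h3, Functor.map_comp, Category.assoc, h2, smulD_mul, smulD_mul, hc]
    simp
  -- the pushout
  have hpo := HilbPtsRep.isPushout_app H.flip.flip (isAffineOpen_top S) (isAffineOpen_top S')
    (show (⊤ : S'.Opens) ≤ g ⁻¹ᵁ ⊤ from le_top)
  have hpo' : IsPushout g.appTop f.appTop f'.appTop g'.appTop := by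
    simp only [Scheme.Hom.app_eq_appLE, Scheme.Hom.appTop] at hpo ⊢
    exact hpo.flip
  letI : Algebra Γ(S', ⊤) Γ(X', ⊤) := f'.appTop.hom.toAlgebra
  letI : Algebra Γ(X, ⊤) Γ(X', ⊤) := g'.appTop.hom.toAlgebra
  letI : Algebra Γ(S, ⊤) Γ(X', ⊤) := (f'.appTop.hom.comp g.appTop.hom).toAlgebra
  haveI : IsScalarTower Γ(S, ⊤) Γ(S', ⊤) Γ(X', ⊤) := IsScalarTower.of_algebraMap_eq fun _ => rfl
  haveI : IsScalarTower Γ(S, ⊤) Γ(X, ⊤) Γ(X', ⊤) := IsScalarTower.of_algebraMap_eq fun s =>
    ConcreteCategory.congr_hom hpo'.w s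
  haveI : Algebra.IsPushout Γ(S, ⊤) Γ(S', ⊤) Γ(X, ⊤) Γ(X', ⊤) :=
    CommRingCat.isPushout_iff_isPushout.1 hpo'
  let e := Algebra.IsPushout.equiv Γ(S, ⊤) Γ(S', ⊤) Γ(X, ⊤) Γ(X', ⊤)
  have hΨμ : ∀ t, Ψ (μ t) = smulD n (e t * c) := fun t => by
    induction t using TensorProduct.induction_on with
    | zero =>
      have h0 : smulD (S := X') n 0 = 0 := by simpa using smulD_add (S := X') n 0 0
      simp [Ψ, Adjunction.homEquiv_counit, h0]
    | tmul a₀ b =>
      rw [hμ, hΨ, Algebra.IsPushout.equiv_tmul, mul_right_comm]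
      rfl
    | add t t' ht ht' =>
      simp only [Ψ, map_add, Preadditive.add_comp, Adjunction.homEquiv_counit, Functor.map_add,
        Preadditive.comp_add] at ht ht' ⊢
      rw [ht, ht', ← smulD_add, add_mul]
  -- spanning
  have hspan : Function.Surjective μ := by
    intro y
    haveI : HasColimitsOfShape (Discrete Γ(X, ⊤)) (DCoh.D S) := TriCat.hasColimitsOfShape_derivedCategory
    haveI : HasColimitsOfShape (Discrete Γ(X, ⊤)) (DCoh.D S') := TriCat.hasColimitsOfShape_derivedCategory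
    let P := ∐ fun _ : Γ(X, ⊤) => oD S n
    let p : P ⟶ R.obj (oD X n) := Sigma.desc x
    obtain ⟨C, q, r, hT⟩ := distinguished_cocone_triangle p
    have hP : DCoh.IsQCohD P := isQCohD_sigma _ fun _ => isQCohD_oD S n
    have hC : DCoh.IsQCohD C := isQCohD_obj₃ hT hP hRO
    haveI hCle : C.IsLE (n - 1) := (DerivedCategory.isLE_iff _ _).2 fun i hi => by
      refine isZero_hd_of_subsingleton hC i (subsingleton_of_forall_eq 0 fun z => ?_)
      have hPi : Subsingleton (oD S i ⟶ P⟦(1 : ℤ)⟧) := by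
        refine subsingleton_hom_oD (isQCohD_shift hP 1) i ?_
        refine IsZero.of_iso ?_ (((DerivedCategory.homologyFunctor S.Modules 0).shiftIso 1 i (i + 1) (by omega)).app P)
        haveI := preservesColimit_homology (fun _ : Γ(X, ⊤) => oD S n) (i + 1)
        refine IsZero.of_iso ?_ (PreservesCoproduct.iso (DerivedCategory.homologyFunctor S.Modules (i + 1)) _)
        refine IsZero.of_iso ?_ (Iso.refl _)
        rw [IsZero.iff_id_eq_zero]
        exact Sigma.hom_ext _ _ fun j =>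
          (DerivedCategory.isZero_of_isLE (oD S n) n (i + 1) (by omega)).eq_of_src _ _
      obtain ⟨z', rfl⟩ := Triangle.coyoneda_exact₃ _ hT z (hPi.elim _ _)
      rcases eq_or_ne i n with rfl | hin
      · obtain ⟨b, rfl⟩ := hx z'
        change x b ≫ q = 0
        rw [show x b = Sigma.ι (fun _ => oD S i) b ≫ p by simp [p], Category.assoc,
          show p ≫ q = 0 from comp_distTriang_mor_zero₁₂ _ hT, comp_zero]
      · rw [(subR i hin).elim z' 0]
        exact zero_comp
    have hGC : Subsingleton (oD S' n ⟶ G.obj C) := by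
      refine subsingleton_hom_oD (isQCohD_of_iso (eG.app _).symm (isQCohD_lpull g hC)) n ?_
      haveI := isLE_lpull g C (n - 1)
      exact (DerivedCategory.isZero_of_isLE ((DCoh.Lpull g).obj C) (n - 1) n (by omega)).of_iso
        ((DerivedCategory.homologyFunctor _ n).mapIso (eG.app _))
    let Hm := preadditiveCoyoneda.obj (op (oD S' n))
    haveI := isHomological_lpull_comp g Hm
    haveI : (G ⋙ Hm).IsHomological :=
      Functor.IsHomological.of_iso (Functor.isoWhiskerRight eG.symm Hm)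
    have hex := (ShortComplex.ab_exact_iff _).1 ((G ⋙ Hm).map_distinguished_exact _ hT) y (hGC.elim _ _)
    obtain ⟨y₁, hy₁ : y₁ ≫ G.map p = y⟩ := hex
    let ψ := PreservesCoproduct.iso G fun _ : Γ(X, ⊤) => oD S n
    obtain ⟨F, hF⟩ := fixAt_of_isPerfect (isPerfect_oD S' n) (fun _ : Γ(X, ⊤) => G.obj (oD S n))
      (fun _ => isQCohD_of_iso v.symm (isQCohD_oD S' n)) (y₁ ≫ ψ.hom)
    rw [partProj_eq_sum] at hF
    have hy : y = ∑ b ∈ F, (y₁ ≫ ψ.hom ≫ TriCat.coprodProj _ b) ≫ G.map (x b) := by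
      rw [← hy₁, ← Iso.hom_inv_id_assoc ψ (G.map p), ← Category.assoc, ← hF, Preadditive.comp_sum,
        Preadditive.sum_comp]
      refine Finset.sum_congr rfl fun b _ => ?_
      simp only [Category.assoc]
      refine congrArg (y₁ ≫ ψ.hom ≫ TriCat.coprodProj _ b ≫ ·) ?_
      simp [ψ, p, PreservesCoproduct.inv_hom, ← Functor.map_comp]
    have hgen : ∀ (z : oD S' n ⟶ G.obj (oD S n)) b, ∃ t, μ t = z ≫ G.map (x b) := fun z b => by
      obtain ⟨a₀, ha₀⟩ := exists_smulD_eq n (z ≫ v.hom)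
      exact ⟨a₀ ⊗ₜ b, by rw [hμ, ha₀, Category.assoc, Iso.hom_inv_id_assoc]⟩
    choose t ht using hgen
    exact ⟨∑ b ∈ F, t (y₁ ≫ ψ.hom ≫ TriCat.coprodProj _ b) b, by
      rw [map_sum, hy]; exact Finset.sum_congr rfl fun b _ => ht _ b⟩
  have hunit : IsUnit c := IsUnit.of_mul_eq_one d hcd
  have hΨbij : Function.Bijective Ψ := by
    refine ⟨fun y y' h => ?_, fun z => ?_⟩
    · obtain ⟨t, rfl⟩ := hspan y
      obtain ⟨t', rfl⟩ := hspan y'
      rw [hΨμ, hΨμ] at h
      rw [e.injective (hunit.mul_left_injective (smulD_injective n h))]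
    · obtain ⟨s, rfl⟩ := exists_smulD_eq n z
      obtain ⟨t, ht⟩ := e.surjective (s * d)
      exact ⟨μ t, by rw [hΨμ, ht, mul_assoc, mul_comm d c, hcd, mul_one]⟩
  let E₁ : (oD S' n ⟶ R'.obj (G'.obj (oD X n))) ≃ (oD X' n ⟶ oD X' n) :=
    (a'.homEquiv _ _).symm.trans (u'.homCongr w)
  have : Ψ = E₁ ∘ fun y => y ≫ (bcM a a' α.hom).app (oD X n) := by
    funext y
    simp [Ψ, E₁, Iso.homCongr]
  rw [this] at hΨbij
  exact (Equiv.comp_bijective _ E₁).1 hΨbij

end Groth.Agent.RBC
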