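import Groth.Agent.RBC.Mate
import Groth.Agent.DQGen.Basic
import Groth.Agent.KFlatLib.Scheme.Adjoint
import Groth.Agent.KFlatLib.Scheme.ProjFormulaLoc
import Groth.Agent.KFlatLib.Scheme.RpushRestrict
import Groth.Agent.KFlatLib.Scheme.LpullLE

/-!
# Base change maps in derived categories of modules: the formal part

`BC` says that the base change map of a commutative square is invertible at an object, whatever
adjunctions and whatever identification of the composite pullbacks are used.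
-/

set_option autoImplicit false
set_option linter.style.haveILetI false
set_option backward.isDefEq.respectTransparency false
set_option backward.isDefEq.respectTransparency.types false

universe u

open CategoryTheory CategoryTheory.Limits AlgebraicGeometry Pretriangulated TopologicalSpace

attribute [local instance] HasDerivedCategory.standard

namespace Groth.Agent.RBC

open Groth.Agent.KFlatLib Groth.Agent.DQGen

attribute [local instance] hasLpull hasRpush_scheme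

variable {X S X' S' : Scheme.{u}}

/-- The base change map of the square is invertible at `E`. -/
def BC (f : X ⟶ S) (g : S' ⟶ S) (f' : X' ⟶ S') (g' : X' ⟶ X) (E : DCoh.D X) : Prop :=
  ∀ (L : DCoh.D S ⥤ DCoh.D X) (R : DCoh.D X ⥤ DCoh.D S) (L' : DCoh.D S' ⥤ DCoh.D X')
    (R' : DCoh.D X' ⥤ DCoh.D S') (G : DCoh.D S ⥤ DCoh.D S') (G' : DCoh.D X ⥤ DCoh.D X')
    (_ : L ≅ DCoh.Lpull f) (_ : L' ≅ DCoh.Lpull f') (_ : G ≅ DCoh.Lpull g) (_ : G' ≅ DCoh.Lpull g')
    (a : L ⊣ R) (a' : L' ⊣ R') (α : G ⋙ L' ≅ L ⋙ G'), IsIso ((bcM a a' α.hom).app E)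

/-- `BC` at all shifts. -/
def BCs (f : X ⟶ S) (g : S' ⟶ S) (f' : X' ⟶ S') (g' : X' ⟶ X) (E : DCoh.D X) : Prop :=
  ∀ n : ℤ, BC f g f' g' (E⟦n⟧)

/-- A right adjoint of `Lf^*` is `Rf_*`. -/
lemma nonempty_right_iso {f : X ⟶ S} {L : DCoh.D S ⥤ DCoh.D X} {R : DCoh.D X ⥤ DCoh.D S}
    (eL : L ≅ DCoh.Lpull f) (a : L ⊣ R) : Nonempty (R ≅ DCoh.Rpush f) := by
  obtain ⟨b⟩ := nonempty_lpull_rpush_adj f
  exact ⟨(a.ofNatIsoLeft eL).rightAdjointUniq b⟩

/-- A commutative square identifies the composite pullbacks. -/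
lemma nonempty_sq_iso (f : X ⟶ S) (g : S' ⟶ S) (f' : X' ⟶ S') (g' : X' ⟶ X)
    (w : g' ≫ f = f' ≫ g) :
    Nonempty (DCoh.Lpull g ⋙ DCoh.Lpull f' ≅ DCoh.Lpull f ⋙ DCoh.Lpull g') := by
  obtain ⟨e₁⟩ := nonempty_lpull_comp f' g
  obtain ⟨e₂⟩ := nonempty_lpull_comp g' f
  have : Nonempty (DCoh.Lpull (f' ≫ g) ≅ DCoh.Lpull (g' ≫ f)) := by
    have key : ∀ (a b : X' ⟶ S) [DCoh.HasLpull a] [DCoh.HasLpull b], a = b →
        Nonempty (DCoh.Lpull a ≅ DCoh.Lpull b) := by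
      rintro a b _ _ rfl
      exact ⟨Iso.refl _⟩
    exact key _ _ w.symm
  obtain ⟨e⟩ := this
  exact ⟨e₁ ≪≫ e ≪≫ e₂.symm⟩

/-- Composites of pullbacks. -/
lemma nonempty_lpull_comp' {Z : Scheme.{u}} {h : X ⟶ S} {i : S ⟶ Z} {k : X ⟶ Z} (w : h ≫ i = k) :
    Nonempty (DCoh.Lpull i ⋙ DCoh.Lpull h ≅ DCoh.Lpull k) := by
  subst w
  exact nonempty_lpull_comp h i

/-- Restriction to an open is the derived pullback, as functors. -/
lemma nonempty_lpull_rho {U : Scheme.{u}} (j : U ⟶ X) [IsOpenImmersion j] :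
    Nonempty (DCoh.Lpull j ≅ rho j) := by
  obtain ⟨b⟩ := nonempty_lpull_rpush_adj j
  exact ⟨b.leftAdjointUniq (DQGen.adj j)⟩

/-- The counit of any adjunction for an open immersion is invertible. -/
lemma isIso_counit_of_open {U : Scheme.{u}} (j : U ⟶ X) [IsOpenImmersion j]
    {G : DCoh.D X ⥤ DCoh.D U} {Q : DCoh.D U ⥤ DCoh.D X} (eG : G ≅ DCoh.Lpull j) (c : G ⊣ Q) :
    IsIso c.counit := by
  obtain ⟨e⟩ := nonempty_lpull_rho j
  let c' := c.ofNatIsoLeft (eG ≪≫ e)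
  let eQ : Q ≅ DCoh.Rpush j := c'.rightAdjointUniq (DQGen.adj j)
  haveI := isIso_adj_counit j
  let hF := (DQGen.adj j).fullyFaithfulROfIsIsoCounit.ofIso eQ.symm
  haveI := hF.full
  haveI := hF.faithful
  infer_instance

/-- `Lf^*` followed by a homological functor is homological. -/
lemma isHomological_lpull_comp (f : X ⟶ S) {A : Type*} [Category A] [Abelian A]
    (H : DCoh.D X ⥤ A) [H.IsHomological] : (DCoh.Lpull f ⋙ H).IsHomological := by
  have hG : KRespects (pullCx f) := fun _ _ α hα hP hQ =>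
    haveI : QuasiIso α := hα
    quasiIso_pullback f α hP hQ
  haveI := isHomological_kLift_comp hG (fun T hT =>
    HomologicalComplex.shortExact_of_degreewise_shortExact _
      fun n => ((hT n).some.map (Scheme.Modules.pullback f)).shortExact) H
  let e : kLift hG ≅ DCoh.Lpull f :=
    Localization.liftNatIso DerivedCategory.Q (qisX S) (DerivedCategory.Q ⋙ kLift hG)
      (DerivedCategory.Q ⋙ DCoh.Lpull f) _ _ (kLiftFac hG ≪≫ (lpullResIso f).symm)
  exact Functor.IsHomological.of_iso (Functor.isoWhiskerRight e H)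

variable {f : X ⟶ S} {g : S' ⟶ S} {f' : X' ⟶ S'} {g' : X' ⟶ X}

lemma BC.of_iso {E F : DCoh.D X} (e : E ≅ F) (h : BC f g f' g' E) : BC f g f' g' F :=
  fun _ _ _ _ _ _ eL eL' eG eG' a a' α =>
    (NatTrans.isIso_app_iff_of_iso _ e).1 (h _ _ _ _ _ _ eL eL' eG eG' a a' α)

lemma BCs.of_iso {E F : DCoh.D X} (e : E ≅ F) (h : BCs f g f' g' E) : BCs f g f' g' F :=
  fun n => (h n).of_iso ((shiftFunctor _ n).mapIso e)

lemma BCs.bc {E : DCoh.D X} (h : BCs f g f' g' E) : BC f g f' g' E :=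
  (h 0).of_iso ((shiftFunctorZero _ ℤ).app E)

lemma BCs.shift {E : DCoh.D X} (h : BCs f g f' g' E) (m : ℤ) : BCs f g f' g' (E⟦m⟧) :=
  fun n => (h (m + n)).of_iso ((shiftFunctorAdd _ m n).app E)

/-- The third vertex of a triangle. -/
lemma BCs.obj₃ (T : Triangle (DCoh.D X)) (hT : T ∈ distTriang (DCoh.D X))
    (h₁ : BCs f g f' g' T.obj₁) (h₂ : BCs f g f' g' T.obj₂) : BCs f g f' g' T.obj₃ := by
  intro n L R L' R' G G' eL eL' eG eG' a a' α
  obtain ⟨eR⟩ := nonempty_right_iso eL a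
  obtain ⟨eR'⟩ := nonempty_right_iso eL' a'
  refine (DerivedCategory.isIso_iff _ _).2 fun i => ?_
  let H := DerivedCategory.homologyFunctor S'.Modules i
  haveI := isHomological_lpull_comp g H
  haveI h₁' := isHomological_rpush_comp f (DCoh.Lpull g ⋙ H)
  haveI := isHomological_rpush_comp f' H
  haveI := isHomological_lpull_comp g' (DCoh.Rpush f' ⋙ H)
  haveI : ((R ⋙ G) ⋙ H).IsHomological :=
    Functor.IsHomological.of_iso (F₁ := DCoh.Rpush f ⋙ DCoh.Lpull g ⋙ H)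
      (Functor.isoWhiskerRight eR.symm (DCoh.Lpull g ⋙ H) ≪≫
        Functor.isoWhiskerLeft R (Functor.isoWhiskerRight eG.symm H) ≪≫ (Functor.associator _ _ _).symm)
  haveI : ((G' ⋙ R') ⋙ H).IsHomological :=
    Functor.IsHomological.of_iso (F₁ := DCoh.Lpull g' ⋙ DCoh.Rpush f' ⋙ H)
      (Functor.isoWhiskerRight eG'.symm (DCoh.Rpush f' ⋙ H) ≪≫
        Functor.isoWhiskerLeft G' (Functor.isoWhiskerRight eR'.symm H) ≪≫ (Functor.associator _ _ _).symm)
  exact isIso_app_shift_obj₃ (Functor.whiskerRight (bcM a a' α.hom) H) T hT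
    (fun m => (DerivedCategory.isIso_iff _ _).1 (h₁ m L R L' R' G G' eL eL' eG eG' a a' α) i)
    (fun m => (DerivedCategory.isIso_iff _ _).1 (h₂ m L R L' R' G G' eL eL' eG eG' a a' α) i) n

lemma BCs.obj₁ (T : Triangle (DCoh.D X)) (hT : T ∈ distTriang (DCoh.D X))
    (h₂ : BCs f g f' g' T.obj₂) (h₃ : BCs f g f' g' T.obj₃) : BCs f g f' g' T.obj₁ :=
  ((BCs.obj₃ _ (rot_of_distTriang _ hT) h₂ h₃).shift (-1)).of_iso
    ((shiftFunctorCompIsoId (DCoh.D X) (1 : ℤ) (-1) (by omega)).app _)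

lemma BCs.obj₂ (T : Triangle (DCoh.D X)) (hT : T ∈ distTriang (DCoh.D X))
    (h₁ : BCs f g f' g' T.obj₁) (h₃ : BCs f g f' g' T.obj₃) : BCs f g f' g' T.obj₂ :=
  BCs.obj₃ _ (inv_rot_of_distTriang _ hT) (h₃.shift (-1)) h₁

lemma BCs.biprod {E F : DCoh.D X} (hE : BCs f g f' g' E) (hF : BCs f g f' g' F) :
    BCs f g f' g' (E ⊞ F) :=
  BCs.obj₂ _ (binaryBiproductTriangle_distinguished E F) hE hF

end Groth.Agent.RBC
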