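import Groth.Agent.KFlatLib.Perfect.LocFreeLocus
import Groth.Agent.KFlatLib.Perfect.Lift
import Groth.Agent.RBC.Formal
import Groth.Agent.RBC.Endo
import Groth.Agent.RBC.Affine
import Mathlib.Algebra.Homology.Embedding.CochainComplex
import Mathlib.CategoryTheory.Limits.Shapes.Biproducts

/-!
# Splitting a unit off a perfect complex with one-dimensional fibre cohomology in degree zero
-/

set_option autoImplicit false
set_option linter.style.haveILetI false
set_option backward.isDefEq.respectTransparency false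
set_option backward.isDefEq.respectTransparency.types false
set_option maxHeartbeats 800000

universe u

open CategoryTheory CategoryTheory.Limits AlgebraicGeometry Pretriangulated TopologicalSpace Opposite Module

attribute [local instance] HasDerivedCategory.standard

noncomputable section

namespace Groth.Agent.RBC

open Groth.Agent.KFlatLib Groth.Agent.DQGen H23.ModLoc

attribute [local instance] hasLpull

variable {X : Scheme.{u}}

/-- The opcycles of a complex in the degree after which it is truncated. -/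
def truncIso (P : CochainComplex X.Modules ℤ) (m : ℤ) :
    (P.truncGE m).X m ≅ cokernel (P.d (m - 1) m) :=
  P.truncGEXIsoOpcycles m ≪≫ (IsColimit.coconePointUniqueUpToIso (cokernelIsCokernel (P.d (m - 1) m))
    (P.opcyclesIsCokernel (m - 1) m (by simp))).symm

/-- Truncation keeps local freeness when the cokernel is flat. -/
lemma isFinLocFree_truncGE {P : CochainComplex X.Modules ℤ} (hf : ∀ i, FlatMod.IsFinLocFree (P.X i))
    (m : ℤ) (hflat : FlatMod.IsFlat (cokernel (P.d (m - 1) m))) (i : ℤ) :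
    FlatMod.IsFinLocFree ((P.truncGE m).X i) := by
  rcases lt_trichotomy i m with h | rfl | h
  · exact isFinLocFree_of_isZero ((P.truncGE m).isZero_of_isStrictlyGE m i h)
  · exact H23.PullPush.isFinLocFree_of_iso (truncIso P i).symm
      (isFinLocFree_cokernel _ (hf _) (hf _) hflat)
  · exact H23.PullPush.isFinLocFree_of_iso (P.truncGEXIso m i h).symm (hf i)

/-- A perfect complex without fibre cohomology below `m` has free representatives starting in degree `m`. -/
theorem exists_free_rep_ge [∀ x : X, DCoh.HasLpull (X.fromSpecResidueField x)] {E : DCoh.D X}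
    (hE : DCoh.IsPerfect E) (m : ℤ) (h : ∀ (x : X) (k : ℤ), k < m → PerfD.betti E x k = 0) (x : X) :
    ∃ (U : Scheme.{u}) (j : U ⟶ X) (_ : IsOpenImmersion j), x ∈ Set.range j.base ∧
      ∃ (P : CochainComplex U.Modules ℤ) (b : ℤ), DCoh.VanishesOutside P m b ∧ m ≤ b ∧
        (∀ i : ℤ, ∃ n : ℕ, Nonempty (P.X i ≅ FlatMod.freeMod U n)) ∧
        Nonempty (DerivedCategory.Q.obj P ≅ (rho j).obj E) := by
  obtain ⟨U, j, _, hx, P, a, b, hab, hfree, ⟨eP⟩⟩ := exists_free_rep hE x
  obtain ⟨n, e, hP, hn⟩ := exists_free_bounded hab hfree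
  have hz : ∀ k, k < m → IsZero (P.homology k) := fun k hk =>
    (((Scheme.Modules.restrictFunctor j).map_isZero
      (isZero_HD_of_betti hE fun y => h y k hk)).of_iso (hdRhoIso j E k)).of_iso
      (((DerivedCategory.homologyFunctorFactors _ k).app P).symm ≪≫
        (DerivedCategory.homologyFunctor U.Modules k).mapIso eP)
  haveI : P.IsGE m := (CochainComplex.isGE_iff P m).2 fun k hk =>
    (HomologicalComplex.exactAt_iff_isZero_homology _ _).2 (hz k hk)
  haveI : IsIso (DerivedCategory.Q.map (P.πTruncGE m)) :=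
    Localization.inverts DerivedCategory.Q (HomologicalComplex.quasiIso _ _) _
      (inferInstanceAs (QuasiIso (P.πTruncGE m)))
  have hflat : FlatMod.IsFlat (cokernel (P.d (m - 1) m)) := fun y => by
    have hf := betti_formula E (j.base y) j y rfl hP e eP.hom
      (isPcMap_of_isIso (m - 2) eP.hom) (m - 2) (m - 1) m (by omega) (by omega) (by omega)
    rw [h _ (m - 1) (by omega), zero_add] at hf
    haveI := (exact_free_stalk y e (m - 2) (m - 1) m hf).2.1
    exact (inferInstance : Module.Flat (U.presheaf.stalk y)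
      ((DerSch.stalkFunctor U y).obj (cokernel (P.d (m - 1) m)) : Type u))
  have hQ : ∀ i, FlatMod.IsFinLocFree ((P.truncGE m).X i) := isFinLocFree_truncGE
    (fun i => H23.PullPush.isFinLocFree_of_iso (hfree i).choose_spec.some.symm
      fun z => isFinLocFree_freeMod _ z) m hflat
  have habQ : DCoh.VanishesOutside (P.truncGE m) m (max b m) := by
    rintro i (hi | hi)
    · exact (P.truncGE m).isZero_of_isStrictlyGE m i hi
    · exact (hab i (Or.inr (by omega))).of_iso (P.truncGEXIso m i (by omega))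
  obtain ⟨u', rfl⟩ := hx
  obtain ⟨W, hW, hfree'⟩ := exists_free_nhd habQ hQ u'
  refine ⟨_, W.ι ≫ j, inferInstance, ⟨⟨u', hW⟩, rfl⟩, (rCx W.ι).obj (P.truncGE m), max b m,
    fun i hi => (Scheme.Modules.restrictFunctor W.ι).map_isZero (habQ i hi), le_max_right _ _, hfree',
    ⟨((rhoQ W.ι).app _).symm ≪≫ (rho W.ι).mapIso ((asIso (DerivedCategory.Q.map (P.πTruncGE m))).symm ≪≫ eP)
      ≪≫ rhoComp W.ι j _ rfl E⟩⟩

/-- The structure module as a free module of rank one. -/
def oneFree (X : Scheme.{u}) : Coh.structureModule X ≅ FlatMod.freeMod X 1 :=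
  (coproductUniqueIso (fun _ : Fin 1 => Coh.structureModule X)).symm

/-- The complex `O` in degree zero. -/
abbrev sgl (X : Scheme.{u}) : CochainComplex X.Modules ℤ :=
  (HomologicalComplex.single X.Modules (ComplexShape.up ℤ) 0).obj (Coh.structureModule X)

lemma isStrictlyPerfect_sgl (X : Scheme.{u}) : DCoh.IsStrictlyPerfect (sgl X) := by
  refine ⟨⟨0, 0, fun i hi =>
    HomologicalComplex.isZero_single_obj_X (ComplexShape.up ℤ) 0 _ i (by omega)⟩, fun i => ?_⟩
  rcases eq_or_ne i 0 with h | h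
  · subst h
    exact H23.PullPush.isFinLocFree_of_iso
      ((HomologicalComplex.singleObjXSelf (ComplexShape.up ℤ) 0 _) ≪≫ oneFree X).symm
      (fun z => isFinLocFree_freeMod _ z)
  · exact isFinLocFree_of_isZero (HomologicalComplex.isZero_single_obj_X (ComplexShape.up ℤ) 0 _ i h)

/-- Restriction of `O` in degree zero. -/
def rCxSgl {U : Scheme.{u}} (j : U ⟶ X) [IsOpenImmersion j] : (rCx j).obj (sgl X) ≅ sgl U :=
  (HomologicalComplex.singleMapHomologicalComplex (Scheme.Modules.restrictFunctor j) _ 0).app _ ≪≫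
    (HomologicalComplex.single U.Modules _ 0).mapIso (restrictStructureIso j)

lemma nonempty_rho_oD {U : Scheme.{u}} (j : U ⟶ X) [IsOpenImmersion j] :
    Nonempty ((rho j).obj (oD X 0) ≅ DerivedCategory.Q.obj (sgl U)) :=
  ⟨(rho j).mapIso ((DerivedCategory.singleFunctorIsoCompQ X.Modules 0).app _) ≪≫ (rhoQ j).app (sgl X) ≪≫
    DerivedCategory.Q.mapIso (rCxSgl j)⟩

/-- A coordinate of a map into a free module that does not vanish after pullback. -/
lemma exists_coord {T : Scheme.{u}} (k : T ⟶ X) {n : ℕ}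
    (w : Coh.structureModule X ⟶ FlatMod.freeMod X n) (h : (Scheme.Modules.pullback k).map w ≠ 0) :
    ∃ l : Fin n, k.appTop (coeff (w ≫ projFree X l)) ≠ 0 := by
  by_contra hc
  push Not at hc
  refine h ?_
  have hw : w = ∑ l, (w ≫ projFree X l) ≫ Sigma.ι (fun _ : Fin n => Coh.structureModule X) l := by
    simp only [Category.assoc, ← Preadditive.comp_sum, sum_projFree, Category.comp_id]
  rw [hw, Functor.map_sum]
  refine Finset.sum_eq_zero fun l _ => ?_
  haveI : IsIso (SheafOfModules.pullbackObjUnitToUnit k.toRingCatSheafHom) := inferInstance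
  have h0 : (Scheme.Modules.pullback k).map (w ≫ projFree X l) = 0 := by
    rw [eq_mulHom (w ≫ projFree X l),
      ← cancel_mono (SheafOfModules.pullbackObjUnitToUnit k.toRingCatSheafHom)]
    refine (pullback_mulHom k _).trans ?_
    rw [hc l, show QCoh.mulHom (0 : Γ(T, ⊤)) = 0 from coeff_injective (by rw [coeff_mulHom]; rfl)]
    exact comp_zero.trans zero_comp.symm
  rw [Functor.map_comp, h0, zero_comp]

/-- A map out of `O` with a unit coordinate splits. -/
lemma exists_retraction {n : ℕ} (w : Coh.structureModule X ⟶ FlatMod.freeMod X n) (l : Fin n)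
    (h : IsUnit (coeff (w ≫ projFree X l))) :
    ∃ r : FlatMod.freeMod X n ⟶ Coh.structureModule X, w ≫ r = 𝟙 _ := by
  refine ⟨projFree X l ≫ QCoh.mulHom (↑h.unit⁻¹ : Γ(X, ⊤)), ?_⟩
  rw [← Category.assoc]
  refine (congrArg (· ≫ QCoh.mulHom (↑h.unit⁻¹ : Γ(X, ⊤))) (eq_mulHom (w ≫ projFree X l))).trans ?_
  rw [← mulHom_mul, h.mul_val_inv, mulHom_one]

lemma coeff_restrict_isUnit {W : X.Opens} {c : Γ(X, ⊤)} (hW : W ≤ X.basicOpen c) :
    IsUnit (W.ι.appTop c) := by
  have h1 := RingedSpace.isUnit_res_basicOpen X.toLocallyRingedSpace.toRingedSpace c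
  have h2 : IsUnit (X.presheaf.map (homOfLE hW).op (X.presheaf.map (homOfLE (X.basicOpen_le c)).op c)) :=
    h1.map (X.presheaf.map (homOfLE hW).op).hom
  rw [← ConcreteCategory.comp_apply, ← Functor.map_comp] at h2
  have e : W.ι.appTop c = W.topIso.inv (X.presheaf.map (homOfLE (le_top : W ≤ ⊤)).op c) := by
    rw [Scheme.Hom.appTop, Scheme.Opens.ι_app, Scheme.Opens.topIso_inv, ← ConcreteCategory.comp_apply,
      ← Functor.map_comp]
    rfl
  rw [e]
  exact h2.map W.topIso.inv.hom

/-- `H^k` of a map from `O` in degree zero is invertible when the map is injective onto the cocycles. -/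
lemma quasiIsoAt_zero_of_exact {P : CochainComplex X.Modules ℤ} (hP : IsZero (P.X (-1))) (w : sgl X ⟶ P)
    [Mono (w.f 0)] (hex : (ShortComplex.mk (w.f 0) (P.d 0 1) (by rw [w.comm 0 1]; simp)).Exact) :
    QuasiIsoAt w 0 := by
  rw [quasiIsoAt_iff' w (-1) 0 1 (by simp) (by simp), ShortComplex.quasiIso_iff_of_zeros _ (by simp)
    (by simp) (hP.eq_of_src _ _)]
  exact ⟨hex, inferInstanceAs (Mono (w.f 0))⟩

/-- An exact sequence `O → A → B` of free modules with split mono, from the rank on fibres. -/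
lemma exact_of_retraction {n₀ n₁ : ℕ} (w : Coh.structureModule X ⟶ FlatMod.freeMod X n₀)
    (r : FlatMod.freeMod X n₀ ⟶ Coh.structureModule X) (hr : w ≫ r = 𝟙 _)
    (d : FlatMod.freeMod X n₀ ⟶ FlatMod.freeMod X n₁) (hwd : w ≫ d = 0)
    (hrk : ∀ y, rkAt (secMat d) y + 1 = n₀) :
    (ShortComplex.mk w d hwd).Exact ∧ FlatMod.IsFlat (cokernel d) := by
  have key : ∀ y : X, ((ShortComplex.mk w d hwd).map (DerSch.stalkFunctor X y)).Exact ∧
      Module.Free (X.presheaf.stalk y) ((DerSch.stalkFunctor X y).obj (cokernel d)) := by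
    intro y
    let st := DerSch.stalkFunctor X y
    haveI : IsLocalHom (X.residue y).hom := inferInstanceAs (IsLocalHom (IsLocalRing.residue _))
    haveI := (finite_free_stalk_freeMod y n₀).1
    haveI := (finite_free_stalk_freeMod y n₀).2.1
    haveI := (finite_free_stalk_freeMod y n₁).1
    haveI := (finite_free_stalk_freeMod y n₁).2.1
    let eO := (st.mapIso (oneFree X)).toLinearEquiv
    haveI : Module.Free (X.presheaf.stalk y) (st.obj (Coh.structureModule X)) :=
      haveI := (finite_free_stalk_freeMod y 1).1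
      Module.Free.of_equiv' inferInstance eO.symm
    haveI : Module.Finite (X.presheaf.stalk y) (st.obj (Coh.structureModule X)) :=
      haveI := (finite_free_stalk_freeMod y 1).2.1
      Module.Finite.equiv eO.symm
    have h1 : finrank (X.presheaf.stalk y) (st.obj (Coh.structureModule X)) = 1 :=
      eO.finrank_eq.trans (finite_free_stalk_freeMod y 1).2.2
    have hinj : Function.Injective ((st.map w).hom.baseChange (IsLocalRing.ResidueField (X.presheaf.stalk y))) := by
      refine Function.LeftInverse.injective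
        (g := (st.map r).hom.baseChange (IsLocalRing.ResidueField (X.presheaf.stalk y))) fun z => ?_
      rw [← LinearMap.comp_apply, ← LinearMap.baseChange_comp, ← ModuleCat.hom_comp, ← Functor.map_comp,
        hr, CategoryTheory.Functor.map_id, ModuleCat.hom_id, LinearMap.baseChange_id]
      rfl
    obtain ⟨hex, hfree, -⟩ := exact_of_fibre (R := X.presheaf.stalk y)
      (f := (st.map w).hom) (g := (st.map d).hom)
      ((ModuleCat.hom_comp _ _).symm.trans
        (congrArg ModuleCat.Hom.hom ((ShortComplex.mk w d hwd).map st).zero))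
      (by
        rw [LinearMap.finrank_range_of_inj hinj, Module.finrank_baseChange, h1, Module.finrank_baseChange]
        refine (congrArg (1 + ·) ((finrank_range_extend y d (IsLocalRing.residue (X.presheaf.stalk y))).trans
          (rank_map_eq_rkAt (secMat d) y (IsLocalRing.residue (X.presheaf.stalk y))))).trans ?_
        exact (((add_comm _ _).trans (hrk y))).trans (finite_free_stalk_freeMod y n₀).2.2.symm)
    exact ⟨(ShortComplex.ShortExact.moduleCat_exact_iff_function_exact _).2 hex,
      Module.Free.of_equiv' hfree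
        (PreservesCokernel.iso st d ≪≫ ModuleCat.cokernelIsoRangeQuotient _).toLinearEquiv.symm⟩
  refine ⟨(exact_iff_stalk _).2 fun y => (key y).1, fun y => ?_⟩
  haveI := (key y).2
  exact (inferInstance : Module.Flat (X.presheaf.stalk y)
    ((DerSch.stalkFunctor X y).obj (cokernel d) : Type u))

/-- A split unit gives a direct sum decomposition. -/
theorem nonempty_biprod_trunc {n : ℤ → ℕ} {P : CochainComplex X.Modules ℤ}
    (e : ∀ i, P.X i ≅ FlatMod.freeMod X (n i)) {b : ℤ} (hab : DCoh.VanishesOutside P 0 b)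
    (w : sgl X ⟶ P) (r : FlatMod.freeMod X (n 0) ⟶ Coh.structureModule X)
    (hr : ((HomologicalComplex.singleObjXSelf (ComplexShape.up ℤ) 0 (Coh.structureModule X)).inv ≫ w.f 0 ≫
      (e 0).hom) ≫ r = 𝟙 _)
    (hrk : ∀ y, rkAt (dMat e 0 1) y + 1 = n 0) :
    (∀ i, FlatMod.IsFinLocFree ((P.truncGE 1).X i)) ∧ DCoh.VanishesOutside (P.truncGE 1) 1 (max b 1) ∧
      Nonempty (DerivedCategory.Q.obj P ≅ oD X 0 ⊞ DerivedCategory.Q.obj (P.truncGE 1)) := by
  let s0 := HomologicalComplex.singleObjXSelf (ComplexShape.up ℤ) 0 (Coh.structureModule X)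
  let d : FlatMod.freeMod X (n 0) ⟶ FlatMod.freeMod X (n 1) := (e 0).inv ≫ P.d 0 1 ≫ (e 1).hom
  let w₀ : Coh.structureModule X ⟶ FlatMod.freeMod X (n 0) := s0.inv ≫ w.f 0 ≫ (e 0).hom
  have hwd : w₀ ≫ d = 0 := by
    simp only [w₀, d, Category.assoc, Iso.hom_inv_id_assoc]
    rw [w.comm_assoc 0 1]
    simp
  obtain ⟨hex, hflat⟩ := exact_of_retraction w₀ r hr d hwd hrk
  let ec : cokernel (P.d 0 1) ≅ cokernel d :=
    cokernel.mapIso (P.d 0 1) d (e 0) (e 1) (Iso.hom_inv_id_assoc (e 0) _).symm
  have hQ : ∀ i, FlatMod.IsFinLocFree ((P.truncGE 1).X i) := isFinLocFree_truncGE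
    (fun i => H23.PullPush.isFinLocFree_of_iso (e i).symm fun z => isFinLocFree_freeMod _ z) 1
    (IsFlat.of_iso ec.symm hflat)
  have habQ : DCoh.VanishesOutside (P.truncGE 1) 1 (max b 1) := by
    rintro i (hi | hi)
    · exact (P.truncGE 1).isZero_of_isStrictlyGE 1 i hi
    · exact (hab i (Or.inr (by omega))).of_iso (P.truncGEXIso 1 i (by omega))
  refine ⟨hQ, habQ, ?_⟩
  let r' : P ⟶ sgl X := HomologicalComplex.mkHomToSingle ((e 0).hom ≫ r) fun i hi => by
    have hi' : i = -1 := by simp only [ComplexShape.up_Rel] at hi; omega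
    exact (hab i (Or.inl (by omega))).eq_of_src _ _
  have hwr : w ≫ r' = 𝟙 _ := by
    refine HomologicalComplex.from_single_hom_ext ?_
    simp only [HomologicalComplex.comp_f, HomologicalComplex.id_f, r',
      HomologicalComplex.mkHomToSingle_f, Category.comp_id]
    rw [← cancel_epi s0.inv, ← cancel_mono s0.hom]
    simpa [s0] using hr
  haveI : IsSplitMono (w.f 0) := IsSplitMono.mk'
    ⟨r'.f 0, by rw [← HomologicalComplex.comp_f, hwr, HomologicalComplex.id_f]⟩
  have hq : QuasiIsoAt w 0 := quasiIsoAt_zero_of_exact (hab (-1) (Or.inl (by omega))) w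
    (ShortComplex.exact_of_iso (ShortComplex.isoMk s0.symm (e 0).symm (e 1).symm
      (by simp [w₀, s0]) (by simp [d])) hex)
  let qS := (DerivedCategory.singleFunctorIsoCompQ X.Modules 0).app (Coh.structureModule X)
  let φ : DerivedCategory.Q.obj P ⟶ oD X 0 ⊞ DerivedCategory.Q.obj (P.truncGE 1) :=
    biprod.lift (DerivedCategory.Q.map r' ≫ qS.inv) (DerivedCategory.Q.map (P.πTruncGE 1))
  haveI : IsIso φ := by
    refine (DerivedCategory.isIso_iff _ _).2 fun k => ?_
    let H := DerivedCategory.homologyFunctor X.Modules k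
    have e₁ : H.map φ ≫ H.map biprod.fst = H.map (DerivedCategory.Q.map r' ≫ qS.inv) := by
      rw [← H.map_comp, biprod.lift_fst]
    have e₂ : H.map φ ≫ H.map biprod.snd = H.map (DerivedCategory.Q.map (P.πTruncGE 1)) := by
      rw [← H.map_comp, biprod.lift_snd]
    have tr : ∀ {A B : CochainComplex X.Modules ℤ} (g : A ⟶ B), QuasiIsoAt g k →
        IsIso (H.map (DerivedCategory.Q.map g)) := fun {A B} g hg =>
      (NatIso.isIso_map_iff (DerivedCategory.homologyFunctorFactors X.Modules k) g).2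
        ((quasiIsoAt_iff_isIso_homologyMap g k).1 hg)
    rcases eq_or_ne k 0 with rfl | hk
    · have hz : IsZero (H.obj (DerivedCategory.Q.obj (P.truncGE 1))) :=
        ((HomologicalComplex.exactAt_iff_isZero_homology _ _).1
          (HomologicalComplex.ExactAt.of_isZero ((P.truncGE 1).isZero_of_isStrictlyGE 1 0 (by omega)))).of_iso
          ((DerivedCategory.homologyFunctorFactors X.Modules 0).app _)
      have hwr' : H.map (DerivedCategory.Q.map w) ≫ H.map (DerivedCategory.Q.map r') = 𝟙 _ := by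
        simp only [← Functor.map_comp, hwr, CategoryTheory.Functor.map_id]
      haveI := tr w hq
      haveI : IsIso (H.map (DerivedCategory.Q.map w) ≫ H.map (DerivedCategory.Q.map r')) := by
        rw [hwr']; infer_instance
      haveI : IsIso (H.map (DerivedCategory.Q.map r')) :=
        IsIso.of_isIso_comp_left (H.map (DerivedCategory.Q.map w)) _
      haveI : IsIso (H.map φ ≫ H.map biprod.fst) := by
        rw [e₁, Functor.map_comp]; infer_instance
      haveI : IsIso (H.map (biprod.fst : oD X 0 ⊞ DerivedCategory.Q.obj (P.truncGE 1) ⟶ oD X 0)) := by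
        refine ⟨H.map biprod.inl, ?_, by rw [← H.map_comp, biprod.inl_fst, H.map_id]⟩
        rw [← H.map_comp, ← H.map_id]
        conv_rhs => rw [← biprod.total]
        rw [H.map_add, H.map_comp biprod.snd, hz.eq_of_tgt (H.map biprod.snd) 0, zero_comp, add_zero]
      exact IsIso.of_isIso_comp_right (H.map φ) (H.map biprod.fst)
    · have hz : IsZero (H.obj (oD X 0)) := by
        rcases lt_or_gt_of_ne hk with h | h
        · exact DerivedCategory.isZero_of_isGE _ 0 k h
        · exact DerivedCategory.isZero_of_isLE _ 0 k h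
      haveI : IsIso (H.map (DerivedCategory.Q.map (P.πTruncGE 1))) := by
        rcases lt_or_ge k 1 with h | h
        · refine IsIso.mk ⟨0, IsZero.eq_of_src ?_ _ _, IsZero.eq_of_src ?_ _ _⟩
          · exact ((HomologicalComplex.exactAt_iff_isZero_homology _ _).1
              (HomologicalComplex.ExactAt.of_isZero (hab k (Or.inl (by omega))))).of_iso
              ((DerivedCategory.homologyFunctorFactors X.Modules k).app P)
          · exact ((HomologicalComplex.exactAt_iff_isZero_homology _ _).1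
              (HomologicalComplex.ExactAt.of_isZero ((P.truncGE 1).isZero_of_isStrictlyGE 1 k h))).of_iso
              ((DerivedCategory.homologyFunctorFactors X.Modules k).app _)
        · exact tr _ (P.quasiIsoAt_πTruncGE (n := 1) k h)
      haveI : IsIso (H.map φ ≫ H.map biprod.snd) := by
        rw [e₂]; infer_instance
      haveI : IsIso (H.map (biprod.snd : oD X 0 ⊞ DerivedCategory.Q.obj (P.truncGE 1) ⟶ _)) := by
        refine ⟨H.map biprod.inr, ?_, by rw [← H.map_comp, biprod.inr_snd, H.map_id]⟩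
        rw [← H.map_comp, ← H.map_id]
        conv_rhs => rw [← biprod.total]
        rw [H.map_add, H.map_comp biprod.fst, hz.eq_of_tgt (H.map biprod.fst) 0, zero_comp, zero_add]
      exact IsIso.of_isIso_comp_right (H.map φ) (H.map biprod.snd)
  exact ⟨asIso φ⟩

lemma rkAt_eq_zero_of_width {p q : ℕ} (c : Matrix (Fin p) (Fin q) Γ(X, ⊤)) (y : X) (hq : q = 0) :
    rkAt c y = 0 := Nat.eq_zero_of_le_zero ((Matrix.rank_le_width _).trans hq.le)

/-- Perfect objects with one-dimensional fibre cohomology in degree zero, none below, and a map from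
`O` that is nonzero on every fibre, split off `O` locally. -/
theorem exists_split_unit [∀ x : X, DCoh.HasLpull (X.fromSpecResidueField x)] {E : DCoh.D X}
    (hE : DCoh.IsPerfect E) (h0 : ∀ (x : X) (k : ℤ), k < 0 → PerfD.betti E x k = 0)
    (h1 : ∀ x : X, PerfD.betti E x 0 = 1) (u : oD X 0 ⟶ E)
    (hu : ∀ x : X, (DCoh.Lpull (X.fromSpecResidueField x)).map u ≠ 0) (x : X) :
    ∃ W : X.Opens, x ∈ W ∧ ∃ (P : CochainComplex (W : Scheme.{u}).Modules ℤ) (b : ℤ), 1 ≤ b ∧
      DCoh.VanishesOutside P 1 b ∧ (∀ i, FlatMod.IsFinLocFree (P.X i)) ∧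
      Nonempty ((rho W.ι).obj E ≅ oD (W : Scheme.{u}) 0 ⊞ DerivedCategory.Q.obj P) := by
  obtain ⟨U, j, _, ⟨y₀, rfl⟩, P₀, b, hab, hb, hfree, ⟨eP⟩⟩ := exists_free_rep_ge hE 0 h0 x
  obtain ⟨n, e, hP, hn⟩ := exists_free_bounded hab hfree
  obtain ⟨eS⟩ := nonempty_rho_oD (X := X) j
  let α₀ : DCoh.toD U (sgl U) ⟶ DCoh.toD U P₀ := eS.inv ≫ (rho j).map u ≫ eP.inv
  obtain ⟨V, β, hyV, hβ⟩ := exists_chain_rep (isStrictlyPerfect_sgl U) α₀ y₀
  let i := V.ι
  let P : CochainComplex (V : Scheme.{u}).Modules ℤ := (rCx i).obj P₀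
  let e' : ∀ k, P.X k ≅ FlatMod.freeMod (V : Scheme.{u}) (n k) := fun k =>
    (Scheme.Modules.restrictFunctor i).mapIso (e k) ≪≫
      (Scheme.Modules.restrictFunctorIsoPullback i).app _ ≪≫ pullFreeIso i (n k)
  have habP : DCoh.VanishesOutside P 0 b :=
    fun k hk => (Scheme.Modules.restrictFunctor i).map_isZero (hab k hk)
  have hKP : DCoh.IsKFlat P := isKFlat_of_vanishesOutside habP fun k =>
    IsFlat.of_iso (e' k).symm (isFlat_freeMod (n k))
  let w : sgl (V : Scheme.{u}) ⟶ P := (rCxSgl i).inv ≫ β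
  let w₀ : Coh.structureModule (V : Scheme.{u}) ⟶ FlatMod.freeMod (V : Scheme.{u}) (n 0) :=
    (HomologicalComplex.singleObjXSelf (ComplexShape.up ℤ) 0 _).inv ≫ w.f 0 ≫ (e' 0).hom
  obtain ⟨y₁, hy₁⟩ : ∃ y₁ : (V : Scheme.{u}), i.base y₁ = y₀ := ⟨⟨y₀, hyV⟩, rfl⟩
  let j' := i ≫ j
  let ι := X.fromSpecResidueField (j.base y₀)
  have hrange : Set.range ι.base ⊆ Set.range j'.base := by
    rintro _ ⟨t, rfl⟩
    refine ⟨y₁, ?_⟩
    rw [Scheme.fromSpecResidueField_apply]
    exact congrArg j.base hy₁
  let k := IsOpenImmersion.lift j' ι hrange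
  have hk : k ≫ j' = ι := IsOpenImmersion.lift_fac j' ι hrange
  haveI := hasLpull k
  have hkw : (Scheme.Modules.pullback k).map w₀ ≠ 0 := by
    intro h
    refine hu (j.base y₀) ?_
    have hw0 : (Scheme.Modules.pullback k).map (w.f 0) = 0 := by
      simpa only [w₀, Functor.map_comp, Preadditive.IsIso.comp_left_eq_zero,
        Preadditive.IsIso.comp_right_eq_zero] using h
    have hwc : (pullCx k).map w = 0 := HomologicalComplex.hom_ext _ _ fun m => by
      rcases eq_or_ne m 0 with rfl | hm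
      · exact hw0
      · exact ((Scheme.Modules.pullback k).map_isZero
          (HomologicalComplex.isZero_single_obj_X (ComplexShape.up ℤ) 0 _ m hm)).eq_of_src _ _
    haveI := isIso_lpullComparison k hKP
    have hQw : (DCoh.Lpull k).map (DerivedCategory.Q.map w) = 0 := by
      rw [← cancel_mono ((lpullComparison k).app P)]
      refine ((lpullComparison k).naturality w).trans ?_
      rw [Functor.comp_map, hwc, Functor.map_zero]
      exact comp_zero.trans zero_comp.symm
    haveI := hasRpush_scheme k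
    haveI : (DCoh.Lpull k).Additive := additive_left (nonempty_lpull_rpush_adj k).some
    have hα : (DCoh.Lpull k).map ((rho i).map ((rho j).map u)) = 0 := by
      have e0 : (rho j).map u = eS.hom ≫ α₀ ≫ eP.hom := by simp [α₀]
      have e1 : (rho i).map α₀ = (Scheme.Modules.restrictFunctor V.ι).mapDerivedCategoryFactors.hom.app (sgl U) ≫
          DerivedCategory.Q.map ((rCxSgl i).hom ≫ w) ≫
            (Scheme.Modules.restrictFunctor V.ι).mapDerivedCategoryFactors.inv.app P₀ := by
        rw [Iso.hom_inv_id_assoc]; exact hβ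
      rw [e0, Functor.map_comp, Functor.map_comp, Functor.map_comp, Functor.map_comp, e1]
      simp only [Functor.map_comp]
      erw [hQw]
      simp
    obtain ⟨r₁⟩ := nonempty_lpull_rho j
    obtain ⟨r₂⟩ := nonempty_lpull_rho i
    obtain ⟨c₁⟩ := nonempty_lpull_comp i j
    obtain ⟨c₂⟩ := nonempty_lpull_comp' hk
    let N : rho j ⋙ rho i ⋙ DCoh.Lpull k ≅ DCoh.Lpull ι :=
      Functor.isoWhiskerRight r₁.symm _ ≪≫ Functor.isoWhiskerLeft _ (Functor.isoWhiskerRight r₂.symm _) ≪≫
        (Functor.associator _ _ _).symm ≪≫ Functor.isoWhiskerRight c₁ _ ≪≫ c₂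
    rw [← cancel_epi (N.hom.app (oD X 0))]
    refine (N.hom.naturality u).symm.trans ?_
    rw [Functor.comp_map, Functor.comp_map, hα]
    exact zero_comp.trans comp_zero.symm
  obtain ⟨l, hl⟩ := exists_coord k w₀ hkw
  let c := coeff (w₀ ≫ projFree (V : Scheme.{u}) l)
  have hyc : y₁ ∈ (V : Scheme.{u}).basicOpen c := by
    haveI : Unique (Spec (X.residueField (j.base y₀))) :=
      inferInstanceAs (Unique (PrimeSpectrum (X.residueField (j.base y₀))))
    have hu' : IsUnit (k.appTop c) := by
      have he := Scheme.ΓSpecIso (X.residueField (j.base y₀))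
      have : IsUnit (he.hom (k.appTop c)) := (Ne.isUnit fun h0 =>
        hl (he.commRingCatIsoToRingEquiv.injective (h0.trans (map_zero _).symm)))
      simpa using this.map he.inv.hom
    have hmem : (default : Spec (X.residueField (j.base y₀))) ∈ k ⁻¹ᵁ (V : Scheme.{u}).basicOpen c := by
      rw [Scheme.preimage_basicOpen]
      exact (Scheme.basicOpen_of_isUnit _ hu').ge trivial
    have hky : k.base default = y₁ := by
      refine j'.isOpenEmbedding.injective ?_
      change (k ≫ j').base default = _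
      rw [hk, Scheme.fromSpecResidueField_apply]
      exact (congrArg j.base hy₁).symm
    rw [← hky]
    exact hmem
  let W₁ : (V : Scheme.{u}).Opens := (V : Scheme.{u}).basicOpen c
  let jW := W₁.ι
  let P₂ : CochainComplex (W₁ : Scheme.{u}).Modules ℤ := (rCx jW).obj P
  let e₂ : ∀ m, P₂.X m ≅ FlatMod.freeMod (W₁ : Scheme.{u}) (n m) := fun m =>
    (Scheme.Modules.restrictFunctor jW).mapIso (e' m) ≪≫
      (Scheme.Modules.restrictFunctorIsoPullback jW).app _ ≪≫ pullFreeIso jW (n m)
  have habP₂ : DCoh.VanishesOutside P₂ 0 b :=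
    fun m hm => (Scheme.Modules.restrictFunctor jW).map_isZero (habP m hm)
  haveI : IsIso ((Scheme.Modules.restrictFunctor jW).map (w₀ ≫ projFree (V : Scheme.{u}) l)) := by
    rw [NatIso.isIso_map_iff (Scheme.Modules.restrictFunctorIsoPullback jW), eq_mulHom (w₀ ≫ projFree _ l)]
    haveI : IsIso (SheafOfModules.pullbackObjUnitToUnit jW.toRingCatSheafHom) := inferInstance
    have hu2 : IsUnit (jW.appTop c) := coeff_restrict_isUnit le_rfl
    haveI : IsIso (QCoh.mulHom (jW.appTop c)) :=
      ⟨QCoh.mulHom (↑hu2.unit⁻¹ : Γ((W₁ : Scheme.{u}), ⊤)),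
        by rw [← mulHom_mul, hu2.mul_val_inv, mulHom_one], by rw [← mulHom_mul, hu2.val_inv_mul, mulHom_one]⟩
    haveI : IsIso (SheafOfModules.pullbackObjUnitToUnit jW.toRingCatSheafHom ≫ QCoh.mulHom (jW.appTop c)) := inferInstance
    exact (isIso_comp_right_iff _ (SheafOfModules.pullbackObjUnitToUnit jW.toRingCatSheafHom)).1
      ((pullback_mulHom jW c).symm ▸ this)
  let r₁ := (Scheme.Modules.restrictFunctor jW).map (projFree (V : Scheme.{u}) l) ≫
    inv ((Scheme.Modules.restrictFunctor jW).map (w₀ ≫ projFree (V : Scheme.{u}) l))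
  have hr₁ : (Scheme.Modules.restrictFunctor jW).map w₀ ≫ r₁ = 𝟙 _ := by
    rw [← Category.assoc, ← Functor.map_comp, IsIso.hom_inv_id]
  let w₂ : sgl (W₁ : Scheme.{u}) ⟶ P₂ := (rCxSgl jW).inv ≫ (rCx jW).map w
  haveI : IsSplitMono ((Scheme.Modules.restrictFunctor jW).map w₀) := IsSplitMono.mk' ⟨r₁, hr₁⟩
  haveI : IsSplitMono ((Scheme.Modules.restrictFunctor jW).map (w.f 0)) := by
    have hw' : w.f 0 = (HomologicalComplex.singleObjXSelf (ComplexShape.up ℤ) 0 _).hom ≫ w₀ ≫ (e' 0).inv := by
      simp [w₀]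
    rw [hw', Functor.map_comp, Functor.map_comp]
    infer_instance
  haveI : IsSplitMono (w₂.f 0) := by
    change IsSplitMono ((rCxSgl jW).inv.f 0 ≫ (Scheme.Modules.restrictFunctor jW).map (w.f 0))
    infer_instance
  haveI : IsSplitMono ((HomologicalComplex.singleObjXSelf (ComplexShape.up ℤ) 0
      (Coh.structureModule (W₁ : Scheme.{u}))).inv ≫ w₂.f 0 ≫ (e₂ 0).hom) := inferInstance
  have hrk : ∀ y, rkAt (dMat e₂ 0 1) y + 1 = n 0 := fun y => by
    let j₂ := jW ≫ j'
    let eP₂ : DerivedCategory.Q.obj P₂ ≅ (rho j₂).obj E :=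
      ((rhoQ jW).app P).symm ≪≫ (rho jW).mapIso (((rhoQ i).app P₀).symm ≪≫ (rho i).mapIso eP ≪≫
        rhoComp i j _ rfl E) ≪≫ rhoComp jW j' _ rfl E
    have hf := betti_formula E (j₂.base y) j₂ y rfl (isKFlat_of_vanishesOutside habP₂ fun m =>
        IsFlat.of_iso (e₂ m).symm (isFlat_freeMod (n m))) e₂ eP₂.hom
      (isPcMap_of_isIso (-1) eP₂.hom) (-1) 0 1 (by omega) (by omega) (by omega)
    rw [h1, rkAt_eq_zero_of_width (dMat e₂ (-1) 0) y (hn (-1) (Or.inl (by omega)))] at hf
    omega
  obtain ⟨hQ, habQ, ⟨eQ⟩⟩ := nonempty_biprod_trunc e₂ habP₂ w₂ (retraction _) (IsSplitMono.id _) hrk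
  let eP₂ : DerivedCategory.Q.obj P₂ ≅ (rho (jW ≫ j')).obj E :=
    ((rhoQ jW).app P).symm ≪≫ (rho jW).mapIso (((rhoQ i).app P₀).symm ≪≫ (rho i).mapIso eP ≪≫
      rhoComp i j _ rfl E) ≪≫ rhoComp jW j' _ rfl E
  let k₂ := rangeHom (jW ≫ j')
  haveI : PreservesBinaryBiproducts (rho k₂) := preservesBinaryBiproducts_of_preservesBiproducts _
  obtain ⟨eO⟩ := nonempty_rho_oD (X := (W₁ : Scheme.{u})) k₂
  refine ⟨(jW ≫ j').opensRange, ⟨⟨y₁, hyc⟩, congrArg j.base hy₁⟩, (rCx k₂).obj (P₂.truncGE 1), max b 1,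
    le_max_right _ _, fun m hm => (Scheme.Modules.restrictFunctor k₂).map_isZero (habQ m hm),
    fun m => H23.PullPush.isFinLocFree_of_iso ((Scheme.Modules.restrictFunctorIsoPullback k₂).symm.app _)
      (isFinLocFree_pullback k₂ (hQ m)), ⟨(rhoComp k₂ (jW ≫ j') _ (rangeHom_fac _) E).symm ≪≫
        (rho k₂).mapIso (eP₂.symm ≪≫ eQ) ≪≫ (rho k₂).mapBiprod _ _ ≪≫
        biprod.mapIso (eO ≪≫ ((DerivedCategory.singleFunctorIsoCompQ _ 0).app _).symm) ((rhoQ k₂).app _)⟩⟩

end Groth.Agent.RBC
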