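import Groth.Agent.RBC.FibreH0
import Groth.Agent.RBC.SplitH0
import Groth.Agent.QCoh.RpushExchange2
import Groth.Agent.KFlatLib.Scheme.RpushRestrict
import Groth.Agent.HilbPoly.Poly
import Groth.Agent.QCoh.UnitPush
import Groth.Agent.S2393

/-!
# Flat proper morphisms with constant functions on the fibres
-/

set_option autoImplicit false
set_option linter.style.haveILetI false
set_option backward.isDefEq.respectTransparency false
set_option backward.isDefEq.respectTransparency.types false
set_option maxHeartbeats 800000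

universe u

open CategoryTheory CategoryTheory.Limits AlgebraicGeometry Pretriangulated TopologicalSpace Opposite

attribute [local instance] HasDerivedCategory.standard

noncomputable section

namespace Groth.Agent.RBC

open Groth.Agent.KFlatLib Groth.Agent.DQGen H23.ModLoc

attribute [local instance] hasLpull hasRpush_scheme

variable {X S : Scheme.{u}}

lemma finrank_top_structureModule (T : Scheme.{u}) [Nontrivial Γ(T, ⊤)] :
    Module.finrank (Coh.Γtop T) ((Coh.structureModule T).val.obj (op ⊤)) = 1 :=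
  letI : CommRing (Coh.Γtop T) := inferInstanceAs (CommRing Γ(T, ⊤))
  haveI : Nontrivial (Coh.Γtop T) := ‹Nontrivial Γ(T, ⊤)›
  Module.finrank_self (Coh.Γtop T)

lemma finrank_top_of_iso {T : Scheme.{u}} {M N : T.Modules} (e : M ≅ N) :
    Module.finrank (Coh.Γtop T) (M.val.obj (op ⊤)) = Module.finrank (Coh.Γtop T) (N.val.obj (op ⊤)) :=
  LinearEquiv.finrank_eq
    ((PresheafOfModules.evaluation _ (op ⊤)).mapIso
      ((SheafOfModules.forget _).mapIso e)).toLinearEquiv

/-- Locally `Rf_* O ≅ O ⊕ P` with `P` in degrees `≥ 1`. -/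
theorem exists_split_rpush (f : X ⟶ S) [IsProper f] [Flat f] [LocallyOfFinitePresentation f]
    (h : ∀ s : S, IsIso (f.fiberToSpecResidueField s).appTop) (s : S) :
    ∃ W : S.Opens, s ∈ W ∧ ∃ (P : CochainComplex (W : Scheme.{u}).Modules ℤ) (b : ℤ), 1 ≤ b ∧
      DCoh.VanishesOutside P 1 b ∧ (∀ i, FlatMod.IsFinLocFree (P.X i)) ∧
      Nonempty ((rho W.ι).obj ((DCoh.Rpush f).obj (oD X 0)) ≅ oD (W : Scheme.{u}) 0 ⊞ DerivedCategory.Q.obj P) := by
  obtain ⟨u, hu⟩ := exists_unit_fibre f h
  haveI : ∀ x : S, DCoh.HasLpull (S.fromSpecResidueField x) := fun x => hasLpull _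
  refine exists_split_unit (isPerfect_rpush_flat_proper f (isPerfect_oD X 0)) (fun x k hk => ?_) (fun x => ?_)
    u (fun x => (hu x).1) s
  · obtain ⟨-, hz, -⟩ := hu x
    unfold PerfD.betti
    haveI := QCoh.subsingleton_Γ_of_isZero (hz k hk) (⊤ : (Spec (S.residueField x)).Opens)
    letI : CommRing (Coh.Γtop (Spec (S.residueField x))) := inferInstanceAs (CommRing Γ(Spec (S.residueField x), ⊤))
    haveI : Nontrivial (Coh.Γtop (Spec (S.residueField x))) :=
      ((Scheme.ΓSpecIso (S.residueField x)).commRingCatIsoToRingEquiv.toEquiv.nontrivial :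
        Nontrivial Γ(Spec (S.residueField x), ⊤))
    haveI : Subsingleton ((DCoh.HD ((DCoh.Lpull (S.fromSpecResidueField x)).obj
        ((DCoh.Rpush f).obj (oD X 0))) k).val.obj (op ⊤)) :=
      QCoh.subsingleton_Γ_of_isZero (hz k hk) (⊤ : (Spec (S.residueField x)).Opens)
    exact Module.finrank_zero_of_subsingleton
  · obtain ⟨-, -, ⟨e⟩⟩ := hu x
    haveI : Nontrivial Γ(Spec (S.residueField x), ⊤) :=
      (Scheme.ΓSpecIso (S.residueField x)).commRingCatIsoToRingEquiv.toEquiv.nontrivial
    exact (finrank_top_of_iso e).trans (finrank_top_structureModule _)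

/-- `H⁰` of the splitting: `f_* O` is trivial on the open. -/
lemma nonempty_push_iso_of_split (f : X ⟶ S) [HasInjectiveResolutions X.Modules] (W : S.Opens)
    {P : CochainComplex (W : Scheme.{u}).Modules ℤ} {b : ℤ} (hv : DCoh.VanishesOutside P 1 b)
    (e : (rho W.ι).obj ((DCoh.Rpush f).obj (oD X 0)) ≅ oD (W : Scheme.{u}) 0 ⊞ DerivedCategory.Q.obj P) :
    Nonempty (((Scheme.Modules.pushforward f).obj (Coh.structureModule X)).restrict W.ι ≅
      Coh.structureModule (W : Scheme.{u})) := by
  obtain ⟨e₀⟩ := nonempty_hd_rpush_single f (Coh.structureModule X) 0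
  haveI := QCoh.preservesFiniteLimits_push f
  haveI := SpObjSS.enoughInjectives_of_hasInjectiveResolutions (C := X.Modules)
  let H := DerivedCategory.homologyFunctor (W : Scheme.{u}).Modules 0
  haveI : PreservesBinaryBiproducts H := preservesBinaryBiproducts_of_preservesBiproducts _
  have hz : IsZero (H.obj (DerivedCategory.Q.obj P)) :=
    ((HomologicalComplex.exactAt_iff_isZero_homology _ _).1
      (HomologicalComplex.ExactAt.of_isZero (hv 0 (Or.inl (by omega))))).of_iso
      ((DerivedCategory.homologyFunctorFactors _ 0).app P)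
  let ebi : H.obj (oD (W : Scheme.{u}) 0 ⊞ DerivedCategory.Q.obj P) ≅ H.obj (oD (W : Scheme.{u}) 0) :=
    { hom := H.map biprod.fst
      inv := H.map biprod.inl
      hom_inv_id := by
        rw [← H.map_comp, ← H.map_id]
        conv_rhs => rw [← biprod.total]
        rw [H.map_add, H.map_comp biprod.snd, hz.eq_of_tgt (H.map biprod.snd) 0, zero_comp, add_zero]
      inv_hom_id := by rw [← H.map_comp, biprod.inl_fst, H.map_id] }
  exact ⟨(Scheme.Modules.restrictFunctor W.ι).mapIso
      (((Scheme.Modules.pushforward f).rightDerivedZeroIsoSelf.app _).symm ≪≫ e₀.symm) ≪≫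
    (hdRhoIso W.ι _ 0).symm ≪≫ H.mapIso e ≪≫ ebi ≪≫
    (DerivedCategory.singleFunctorCompHomologyFunctorIso _ 0).app _⟩

/-- A map to a trivial module that is nonzero on every fibre is invertible. -/
theorem isIso_restrict_unitToPush (f : X ⟶ S) (h : ∀ s : S, IsIso (f.fiberToSpecResidueField s).appTop)
    (W : S.Opens) (e : ((Scheme.Modules.pushforward f).obj (Coh.structureModule X)).restrict W.ι ≅
      Coh.structureModule (W : Scheme.{u})) :
    IsIso ((Scheme.Modules.restrictFunctor W.ι).map (ClSub.unitToPush f)) := by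
  let ψ := (Scheme.Modules.restrictFunctor W.ι).map (ClSub.unitToPush f)
  let θ := (restrictStructureIso W.ι).inv ≫ ψ ≫ e.hom
  have hψ : ψ = (restrictStructureIso W.ι).hom ≫ QCoh.mulHom (coeff θ) ≫ e.inv := by
    rw [← eq_mulHom θ]; simp [θ]
  by_cases ha : IsUnit (coeff θ)
  · haveI : IsIso (QCoh.mulHom (coeff θ)) :=
      ⟨QCoh.mulHom (↑ha.unit⁻¹ : Γ((W : Scheme.{u}), ⊤)),
        by rw [← mulHom_mul, ha.mul_val_inv, mulHom_one], by rw [← mulHom_mul, ha.val_inv_mul, mulHom_one]⟩
    change IsIso ψ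
    rw [hψ]
    infer_instance
  exfalso
  obtain ⟨z, hz⟩ : ∃ z : (W : Scheme.{u}), z ∉ (W : Scheme.{u}).basicOpen (coeff θ) := by
    by_contra hc
    push Not at hc
    exact ha (((W : Scheme.{u}).toLocallyRingedSpace.toRingedSpace).isUnit_of_isUnit_germ ⊤ _
      fun x hx => (Scheme.mem_basicOpen (W : Scheme.{u}) (coeff θ) x hx).1 (hc x))
  let s := W.ι.base z
  let ι := S.fromSpecResidueField s
  have hrange : Set.range ι.base ⊆ Set.range W.ι.base := by
    rintro _ ⟨t, rfl⟩
    exact ⟨z, (Scheme.fromSpecResidueField_apply _ t).symm⟩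
  let k := IsOpenImmersion.lift W.ι ι hrange
  have hk : k ≫ W.ι = ι := IsOpenImmersion.lift_fac W.ι ι hrange
  haveI : Unique (Spec (S.residueField s)) :=
    inferInstanceAs (Unique (PrimeSpectrum (S.residueField s)))
  have hk0 : k.appTop (coeff θ) = 0 := by
    by_contra hne
    refine hz ?_
    have hu : IsUnit (k.appTop (coeff θ)) := by
      have he := Scheme.ΓSpecIso (S.residueField s)
      have : IsUnit (he.hom (k.appTop (coeff θ))) := (Ne.isUnit fun h0 =>
        hne (he.commRingCatIsoToRingEquiv.injective (h0.trans (map_zero _).symm)))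
      simpa using this.map he.inv.hom
    have hm : (default : Spec (S.residueField s)) ∈ k ⁻¹ᵁ (W : Scheme.{u}).basicOpen (coeff θ) := by
      rw [Scheme.preimage_basicOpen]
      exact (Scheme.basicOpen_of_isUnit _ hu).ge trivial
    have hkz : k.base default = z := by
      refine W.ι.isOpenEmbedding.injective ?_
      change (k ≫ W.ι).base default = _
      rw [hk, Scheme.fromSpecResidueField_apply]
    rw [← hkz]; exact hm
  have h1 : (Scheme.Modules.pullback k).map ψ = 0 := by
    rw [hψ, Functor.map_comp, Functor.map_comp]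
    have : (Scheme.Modules.pullback k).map (QCoh.mulHom (coeff θ)) = 0 := by
      haveI : IsIso (SheafOfModules.pullbackObjUnitToUnit k.toRingCatSheafHom) := inferInstance
      rw [← cancel_mono (SheafOfModules.pullbackObjUnitToUnit k.toRingCatSheafHom)]
      refine (pullback_mulHom k _).trans ?_
      rw [hk0, show QCoh.mulHom (0 : Γ(Spec (S.residueField s), ⊤)) = 0 from
        coeff_injective (by rw [coeff_mulHom]; rfl)]
      exact comp_zero.trans zero_comp.symm
    rw [this]; simp
  have h2 : (Scheme.Modules.pullback ι).map (ClSub.unitToPush f) = 0 := by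
    let N : Scheme.Modules.restrictFunctor W.ι ⋙ Scheme.Modules.pullback k ≅ Scheme.Modules.pullback ι :=
      Functor.isoWhiskerRight (Scheme.Modules.restrictFunctorIsoPullback W.ι) _ ≪≫
        Scheme.Modules.pullbackComp k W.ι ≪≫ Scheme.Modules.pullbackCongr hk
    rw [← cancel_epi (N.hom.app _)]
    refine (N.hom.naturality (ClSub.unitToPush f)).symm.trans ?_
    rw [Functor.comp_map, h1]
    exact zero_comp.trans comp_zero.symm
  let g' := f.fiberι s
  let p := f.fiberToSpecResidueField s
  let ec : (Scheme.Modules.pushforward f).obj ((Scheme.Modules.pushforward g').obj (Coh.structureModule _)) ≅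
      (Scheme.Modules.pushforward ι).obj ((Scheme.Modules.pushforward p).obj (Coh.structureModule _)) :=
    (Scheme.Modules.pushforwardComp g' f).app _ ≪≫
      (Scheme.Modules.pushforwardCongr (f.fiber_fac s)).app _ ≪≫
      ((Scheme.Modules.pushforwardComp p ι).app _).symm
  let χ := (Scheme.Modules.pushforward f).map (ClSub.unitToPush g')
  let adj := Scheme.Modules.pullbackPushforwardAdjunction ι
  have h3 : ClSub.unitToPush f ≫ χ ≫ ec.hom = 0 := by
    apply (adj.homEquiv _ _).symm.injective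
    rw [adj.homEquiv_naturality_left_symm, h2, zero_comp, Adjunction.homEquiv_counit, Functor.map_zero,
      zero_comp]
  have h4 : ClSub.unitToPush f ≫ χ = 0 := by
    rw [← cancel_mono ec.hom, Category.assoc, h3, zero_comp]
  have h5 : g'.app (f ⁻¹ᵁ ⊤) (f.app ⊤ 1) = 0 :=
    congrArg (fun φ : Coh.structureModule S ⟶
      (Scheme.Modules.pushforward f).obj ((Scheme.Modules.pushforward g').obj (Coh.structureModule _)) =>
      φ.app ⊤ (1 : Γ(S, ⊤))) h4
  rw [map_one, map_one] at h5
  haveI : Nontrivial Γ(f.fiber s, ⊤) := by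
    haveI : Nontrivial Γ(Spec (S.residueField s), ⊤) :=
      (Scheme.ΓSpecIso (S.residueField s)).commRingCatIsoToRingEquiv.toEquiv.nontrivial
    haveI := h s
    exact (ConcreteCategory.bijective_of_isIso p.appTop).1.nontrivial
  exact one_ne_zero (α := Γ(f.fiber s, ⊤)) h5

/-- `O_S = f_* O_X`. -/
theorem isIso_app_of_fibres (f : X ⟶ S) [IsProper f] [Flat f] [LocallyOfFinitePresentation f]
    (h : ∀ s : S, IsIso (f.fiberToSpecResidueField s).appTop) (V : S.Opens) : IsIso (f.app V) := by
  haveI hiso : IsIso (ClSub.unitToPush f) := isIso_of_locally (ClSub.unitToPush f) fun s => by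
    obtain ⟨W, hW, P, b, -, hv, -, ⟨e⟩⟩ := exists_split_rpush f h s
    obtain ⟨e'⟩ := nonempty_push_iso_of_split f W hv e
    exact ⟨W, hW, isIso_restrict_unitToPush f h W e'⟩
  exact (ConcreteCategory.isIso_iff_bijective _).2
    (show Function.Bijective (f.app V) from
      (ConcreteCategory.isIso_iff_bijective ((ClSub.unitToPush f).app V)).1
        (Scheme.Modules.Hom.isIso_iff_isIso_app.1 hiso V))

/-- The splitting over an open, in the form of the derived direct image of the restricted morphism. -/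
theorem exists_split_restrict (f : X ⟶ S) [IsProper f] [Flat f] [LocallyOfFinitePresentation f]
    (h : ∀ s : S, IsIso (f.fiberToSpecResidueField s).appTop) (s : S) :
    ∃ V : S.Opens, s ∈ V ∧ ∀ [DCoh.HasRpush (f ∣_ V)] [∀ A B : DCoh.D (V : Scheme.{u}), HasBinaryBiproduct A B],
      ∃ (P : DCoh.D (V : Scheme.{u})) (b : ℤ), DCoh.IsPerfect P ∧ DCoh.HasTorAmplitudeIn 1 b P ∧
        Nonempty ((DCoh.Rpush (f ∣_ V)).obj (DCoh.inD (f ⁻¹ᵁ V : Scheme.{u}) (Coh.structureModule (f ⁻¹ᵁ V : Scheme.{u}))) ≅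
          DCoh.inD (V : Scheme.{u}) (Coh.structureModule (V : Scheme.{u})) ⊞ P) := by
  obtain ⟨W, hs, P, b, hb, hv, hf, ⟨e⟩⟩ := exists_split_rpush f h s
  refine ⟨W, hs, fun {_ hB} => ⟨DerivedCategory.Q.obj P, b, (isPerfect_iff _).2 (LocSP.of_local fun w => ?_),
    torAmplitude_of_flatAmplitude ⟨P, hv, fun i => isFlat_of_isFinLocFree (hf i), ⟨Iso.refl _⟩⟩, ?_⟩⟩
  · refine ⟨_, (⊤ : (W : Scheme.{u}).Opens).ι, inferInstance, ⟨⟨w, trivial⟩, rfl⟩, fun w' => ?_⟩
    exact ⟨_, 𝟙 _, inferInstance, ⟨w', rfl⟩, (rCx (𝟙 _)).obj ((rCx (⊤ : (W : Scheme.{u}).Opens).ι).obj P),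
      isStrictlyPerfect_restrict _ (isStrictlyPerfect_restrict _ ⟨⟨1, b, hv⟩, hf⟩),
      ⟨((rhoQ (𝟙 _)).app _).symm ≪≫ (rho (𝟙 _)).mapIso ((rhoQ _).app P).symm⟩⟩
  obtain ⟨e₁⟩ := nonempty_rpush_restrictD_iso f W
  obtain ⟨e₂⟩ := nonempty_rho_oD (X := X) (f ⁻¹ᵁ W).ι
  refine ⟨(DCoh.Rpush (f ∣_ W)).mapIso (((DerivedCategory.singleFunctorIsoCompQ _ 0).app _) ≪≫ e₂.symm) ≪≫
    (e₁.app (oD X 0)).symm ≪≫ e ≪≫ ?_⟩
  exact { hom := biprod.lift biprod.fst biprod.snd, inv := biprod.lift biprod.fst biprod.snd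
          hom_inv_id := by ext <;> simp
          inv_hom_id := by ext <;> simp }

end Groth.Agent.RBC
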