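import Groth.Agent.RBC.Proper
import Groth.Agent.RBC.Main
import Groth.Agent.PushAmp.RelFlatRep
import Groth.Agent.PushAmp.Basic
import Groth.Agent.KFlatLib.Perfect.Amplitude
import Groth.Agent.KFlatLib.Perfect.LocFreeLocus
import Groth.Agent.QCoh.RpushModel
import Groth.Agent.VarDim.Top
import Groth.Agent.FibDim.Top
import Groth.Agent.S0458
import Groth.Agent.ExtShX.Basic

/-!
# Tor amplitude of direct images and the dimension of the fibres
-/

set_option autoImplicit false
set_option linter.style.haveILetI false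
set_option backward.isDefEq.respectTransparency false
set_option backward.isDefEq.respectTransparency.types false
set_option maxHeartbeats 800000
set_option synthInstance.maxHeartbeats 400000

universe u

open CategoryTheory CategoryTheory.Limits AlgebraicGeometry Pretriangulated TopologicalSpace Opposite ZeroObject

attribute [local instance] HasDerivedCategory.standard

noncomputable section

namespace Groth.Agent.RBC

open Groth.Agent.KFlatLib Groth.Agent.DQGen

attribute [local instance] hasLpull hasRpush_scheme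

variable {X Y : Scheme.{u}}

/-- Fibres of pointwise dimension `≤ n` have dimension `≤ n`. -/
theorem topologicalKrullDim_fiber_le (f : X ⟶ Y) [LocallyOfFiniteType f] (n : ℕ)
    (hdim : ∀ x : X, FlatMor.fibreDimAt f x ≤ n) (y : Y) : topologicalKrullDim (f.fiber y) ≤ n := by
  rw [VarDim.topologicalKrullDim_eq_iSup_deg (k := Y.residueField y) (f.fiberToSpecResidueField y)]
  refine iSup_le fun z => ?_
  have hloc : FlatMor.localDim (f.fiber y) z ≤ n := by
    have hy : f (f.fiberι y z) = y := by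
      have : f.fiberι y z ∈ Set.range (f.fiberι y) := ⟨z, rfl⟩
      rw [Scheme.Hom.range_fiberι] at this
      exact this
    suffices ∀ (y' : Y) (_ : y' = y) (z' : ↥(f.fiber y')), f.fiberι y' z' = f.fiberι y z →
        FlatMor.localDim (f.fiber y') z' = FlatMor.localDim (f.fiber y) z from
      (this _ hy (f.asFiber _) (f.fiberι_asFiber _)).symm.le.trans (hdim _)
    rintro _ rfl z' hz'
    rw [(f.fiberι _).isEmbedding.injective hz']
  refine le_trans (le_iInf fun U => ?_) hloc
  rw [VarDim.topologicalKrullDim_opens_eq_iSup_deg (k := Y.residueField y) (f.fiberToSpecResidueField y) U.1]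
  exact le_iSup_of_le ⟨z, U.2⟩ le_rfl

/-- Higher direct images to the spectrum of a field vanish above the dimension. -/
theorem rpushVanish_field {Z : Scheme.{u}} (k : Type u) [Field k] (p : Z ⟶ Spec (CommRingCat.of k))
    [LocallyOfFiniteType p] [QuasiCompact p] [QuasiSeparated p] [HasInjectiveResolutions Z.Modules] (n : ℕ)
    (hn : topologicalKrullDim Z ≤ n) :
    RpushVanish p (⊤ : (Spec (CommRingCat.of k)).Opens) (n + 1) := by
  intro M hM q hq
  haveI : IsLocallyNoetherian Z := LocallyOfFiniteType.isLocallyNoetherian p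
  haveI : CompactSpace Z := QuasiCompact.compactSpace_of_compactSpace p
  haveI : IsNoetherian Z := {}
  let V : (Spec (CommRingCat.of k)).Opens := ⊤
  let U : Z.Opens := p ⁻¹ᵁ V
  letI := QCoh.modHH (QCoh.rhoV p V) (M.restrict U.ι) q
  obtain ⟨e⟩ := QCoh.nonempty_sections_HH (f := p) hM (isAffineOpen_top (Spec (CommRingCat.of k))) q
  haveI : IsIso U.ι := by
    rw [show U.ι = (Scheme.topIso Z).hom from rfl]
    infer_instance
  haveI : IsNoetherian (U : Scheme.{u}) := by
    haveI : IsLocallyNoetherian (U : Scheme.{u}) := inferInstance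
    haveI : CompactSpace (U : Scheme.{u}) := QuasiCompact.compactSpace_of_compactSpace U.ι
    exact {}
  have hU : Subsingleton (Coh.HH (U : Scheme.{u}) (M.restrict U.ι) q) :=
    Groth.Agent.S0458.result (X := TopCat.of (U : Scheme.{u})) n
      ((TopCat.homeoOfIso (asIso U.ι.base)).isHomeomorph.topologicalKrullDim_eq.le.trans hn) _ q (by omega)
  haveI : Subsingleton Γ((Coh.Rpush p q).obj M, V) := e.toEquiv.subsingleton
  refine (Scheme.Modules.restrictFunctor _).map_isZero (QCoh.isZero_of_cover (QCoh.isQCoh_Rpush p hM q)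
    (fun _ : Unit => V) (fun _ => isAffineOpen_top _) ?_ fun _ => ?_)
  · exact fun t => ⟨(), trivial⟩
  · assumption

variable (f : X ⟶ Y) [IsProper f] [Flat f] [LocallyOfFinitePresentation f]

/-- No cohomology of `Rf_*E` above `b + n`. -/
theorem isZero_hd_rpush_of_fibreDim (n : ℕ) (hdim : ∀ x : X, FlatMor.fibreDimAt f x ≤ n)
    {E : DCoh.D X} (hE : DCoh.IsPerfect E) (a b : ℤ) (hab : DCoh.HasFlatAmplitudeIn a b E)
    (i : ℤ) (hi : b + n < i) : IsZero (DCoh.HD ((DCoh.Rpush f).obj E) i) := by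
  haveI : ∀ y : Y, DCoh.HasLpull (Y.fromSpecResidueField y) := fun y => hasLpull _
  refine isZero_HD_of_betti (isPerfect_rpush_flat_proper f hE) fun y => ?_
  let ι := Y.fromSpecResidueField y
  let p := f.fiberToSpecResidueField y
  let g' := f.fiberι y
  have H : IsPullback g' p f ι := IsPullback.of_hasPullback f ι
  haveI : IsProper p := inferInstanceAs (IsProper (pullback.snd f ι))
  obtain ⟨e⟩ := nonempty_bc_iso H.w (bc_of_flat_left H E (isQCohD_of_isPerfect hE))
  obtain ⟨F, hv, -, ⟨eF⟩⟩ := flatAmplitude_lpull g' hab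
  haveI : ((DCoh.Lpull g').obj E).IsLE b := (DerivedCategory.isLE_iff _ _).2 fun j hj =>
    (ShortComplex.isZero_homology_of_isZero_X₂ _ (hv j (Or.inr hj))).of_iso
      ((DerivedCategory.homologyFunctor _ j).mapIso eF.symm ≪≫
        (DerivedCategory.homologyFunctorFactors _ j).app F)
  have hz : IsZero (DCoh.HD ((DCoh.Lpull ι).obj ((DCoh.Rpush f).obj E)) i) := by
    refine IsZero.of_iso ?_ ((DerivedCategory.homologyFunctor _ i).mapIso e)
    refine isZero_of_isZero_restrict _ fun t => ⟨⊤, trivial, ?_⟩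
    exact isZero_restrict_hd_rpush p (isQCohD_lpull g' (isQCohD_of_isPerfect hE)) b ⊤ (n + 1)
      (rpushVanish_field (Y.residueField y) p n (topologicalKrullDim_fiber_le f n hdim y)) i (by push_cast; omega)
  unfold PerfD.betti
  letI : CommRing (Coh.Γtop (Spec (Y.residueField y))) :=
    inferInstanceAs (CommRing Γ(Spec (Y.residueField y), ⊤))
  haveI : Nontrivial (Coh.Γtop (Spec (Y.residueField y))) :=
    ((Scheme.ΓSpecIso (Y.residueField y)).commRingCatIsoToRingEquiv.toEquiv.nontrivial :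
      Nontrivial Γ(Spec (Y.residueField y), ⊤))
  haveI : Subsingleton ((DCoh.HD ((DCoh.Lpull ι).obj ((DCoh.Rpush f).obj E)) i).val.obj (op ⊤)) :=
    QCoh.subsingleton_Γ_of_isZero hz (⊤ : (Spec (Y.residueField y)).Opens)
  exact Module.finrank_zero_of_subsingleton

/-- Tor amplitude of `Rf_*E`. -/
theorem hasTorAmplitudeIn_rpush (n : ℕ) (hdim : ∀ x : X, FlatMor.fibreDimAt f x ≤ n)
    {E : DCoh.D X} (hE : DCoh.IsPerfect E) (a b : ℤ) (hab : DCoh.HasFlatAmplitudeIn a b E) :
    DCoh.HasTorAmplitudeIn a (b + n) ((DCoh.Rpush f).obj E) := by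
  obtain ⟨F, hv, hF, ⟨eF⟩⟩ := hab
  rcases lt_or_ge (b + n) a with hlt | hle
  · have hF0 : IsZero F := (IsZero.iff_id_eq_zero _).2 (HomologicalComplex.hom_ext _ _ fun i =>
      (hv i (by omega)).eq_of_src _ _)
    have hE0 : IsZero E := (DerivedCategory.Q.map_isZero hF0).of_iso eF.symm
    have hz : IsZero ((DCoh.Rpush f).obj E) := pp_of_isZero f hE0
    have h0 : IsZero (0 : CochainComplex Y.Modules ℤ) := isZero_zero _
    refine torAmplitude_of_flatAmplitude
      ⟨0, fun i _ => (HomologicalComplex.eval _ _ i).map_isZero h0,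
        fun i => isFlat_of_isFinLocFree (isFinLocFree_of_isZero ((HomologicalComplex.eval _ _ i).map_isZero h0)),
        ⟨(DerivedCategory.Q.map_isZero h0).iso hz⟩⟩
  refine torAmplitude_of_local _ fun y => ?_
  obtain ⟨_, ⟨(U : Y.Opens), hU, rfl⟩, hyU, -⟩ :=
    Y.isBasis_affineOpens.exists_subset_of_mem_open (Set.mem_univ y) isOpen_univ
  haveI : IsAffine (U : Scheme.{u}) := hU
  haveI : IsProper (f ∣_ U) := IsZariskiLocalAtTarget.restrict ‹IsProper f› U
  haveI : Flat (f ∣_ U) := IsZariskiLocalAtTarget.restrict ‹Flat f› U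
  let j := (f ⁻¹ᵁ U).ι
  obtain ⟨er⟩ := nonempty_rpush_restrictD_iso f U
  let F' := (rCx j).obj F
  have hta : DerSch.HasTorAmplitude (f ∣_ U) a b F' :=
    PushAmp.hasTorAmplitude_of_flatOver _
      (fun i hi => (Scheme.Modules.restrictFunctor j).map_isZero (hv i hi))
      fun i => PushAmp.isFlatOver_morphismRestrict f U (PushAmp.isFlatOver_of_isFlat (f := f) (hF i))
  have hq : DCoh.IsQCohD (DCoh.toD _ F') :=
    isQCohD_of_iso ((rhoQ j).app F)
      (isQCohD_restrictD j (isQCohD_of_iso eF.symm (isQCohD_of_isPerfect hE)))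
  obtain ⟨b', P, hPv, hPf, ⟨eP⟩⟩ := PushAmp.exists_flatAmplitude_rpush (f ∣_ U) F' hq a b hta
  let K := (DCoh.Rpush f).obj E
  let K' := (rho U.ι).obj K
  let eK : DCoh.toD _ P ≅ K' :=
    eP ≪≫ (DCoh.Rpush (f ∣_ U)).mapIso (((rhoQ j).app F).symm ≪≫ (rho j).mapIso eF) ≪≫ (er.app E).symm
  have hK : DCoh.IsPerfect K' := isPerfect_rho U.ι (isPerfect_rpush_flat_proper f hE)
  let m := max b' (b + n)
  obtain ⟨V, l, _, ⟨v, hv'⟩, Q, hQv, hQf, ⟨eQ⟩⟩ := (perfectAmplitude_iff K' a m (le_max_of_le_right hle)).2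
    ⟨LocSP.locPC ((isPerfect_iff _).1 hK) _,
      ⟨P, fun i hi => hPv i (by omega), hPf, ⟨eK⟩⟩⟩ ⟨y, hyU⟩
  have hh : ∀ i, b + n < i → IsZero (Q.homology i) := fun i hi => by
    have h1 : IsZero (DCoh.HD K' i) :=
      ((Scheme.Modules.restrictFunctor U.ι).map_isZero (isZero_hd_rpush_of_fibreDim f n hdim hE a b ⟨F, hv, hF, ⟨eF⟩⟩ i hi)).of_iso
        ((mapDCHomologyIso (Scheme.Modules.restrictFunctor U.ι) i).app K)
    exact ((Scheme.Modules.restrictFunctor l).map_isZero h1).of_iso
      (((DerivedCategory.homologyFunctorFactors _ i).app Q).symm ≪≫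
        (DerivedCategory.homologyFunctor _ i).mapIso eQ ≪≫
        (mapDCHomologyIso (Scheme.Modules.restrictFunctor l) i).app K')
  obtain ⟨Q', hQ', hhi, hlo, ⟨e'⟩⟩ := exists_cutoff (b + n) (m - (b + n)).toNat Q ⟨⟨a, m, hQv⟩, hQf⟩
    (fun i hi => hQv i (Or.inr (by omega))) hh
  have hlow := hlo a hle fun i hi => hQv i (Or.inl hi)
  refine ⟨V, l ≫ U.ι, inferInstance, ⟨v, by simp only [Scheme.Hom.comp_base, TopCat.comp_app, hv']; rfl⟩, ?_⟩
  exact torAmplitude_of_flatAmplitude ⟨Q', fun i hi => hi.elim (hlow i) (hhi i),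
    fun i => isFlat_of_isFinLocFree (hQ'.2 i),
    ⟨e' ≪≫ eQ ≪≫ rhoComp l U.ι (l ≫ U.ι) rfl K⟩⟩

end Groth.Agent.RBC
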