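import Groth.Agent.SteinLib.General
import Groth.Agent.HensCouple7.Gamma
import Groth.Agent.FibDim.AffineChart

/-!
# Lifting idempotent functions from a fibre of a proper morphism
-/

set_option autoImplicit false
set_option linter.style.haveILetI false
set_option backward.isDefEq.respectTransparency false
set_option backward.isDefEq.respectTransparency.types false
set_option maxHeartbeats 800000

universe u

open CategoryTheory CategoryTheory.Limits AlgebraicGeometry TopologicalSpace Opposite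

noncomputable section

namespace Groth.Agent.RBC

lemma top_le_fibre {N S : Scheme.{u}} (h : N ⟶ S) {s : S} {V : S.Opens} (hsV : s ∈ V) :
    (⊤ : (h.fiber s).Opens) ≤ h.fiberι s ⁻¹ᵁ (h ⁻¹ᵁ V) := fun z _ => by
  have hz : h.fiberι s z ∈ h ⁻¹' {s} := h.range_fiberι s ▸ Set.mem_range_self z
  show h (h.fiberι s z) ∈ V
  rwa [show h (h.fiberι s z) = s from hz]

/-- For an affine morphism every function on a fibre comes from a neighbourhood of the fibre. -/
theorem exists_lift_fibre_nhds {N S : Scheme.{u}} (h : N ⟶ S) [IsAffineHom h] (s : S)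
    (x : Γ(h.fiber s, ⊤)) :
    ∃ (V : S.Opens) (hsV : s ∈ V) (t : Γ(N, h ⁻¹ᵁ V)),
      (h.fiberι s).appLE (h ⁻¹ᵁ V) ⊤ (top_le_fibre h hsV) t = x := by
  obtain ⟨V0, hV0, hs, -⟩ :=
    exists_isAffineOpen_mem_and_subset (X := S) (x := s) (U := ⊤) trivial
  let W := h ⁻¹ᵁ V0
  let q := h ∣_ V0
  haveI : IsAffine (V0 : Scheme.{u}) := hV0
  haveI : IsAffine (W : Scheme.{u}) := hV0.preimage h
  let y : (V0 : Scheme.{u}) := ⟨s, hs⟩
  have Hsq := isPullback_fiberToSpecResidueField_of_isPullback (isPullback_morphismRestrict h V0).flip y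
  let m : q.fiber y ⟶ h.fiber s :=
    pullback.map _ _ _ _ W.ι (Spec.map (V0.ι.residueFieldMap y)) V0.ι
      (isPullback_morphismRestrict h V0).w (V0.ι.SpecMap_residueFieldMap_fromSpecResidueField y).symm
  have hm : m ≫ h.fiberι s = q.fiberι y ≫ W.ι := pullback.lift_fst _ _ _
  haveI : IsIso m := (MorphismProperty.isomorphisms Scheme.{u}).of_isPullback Hsq.flip
    (show IsIso (Spec.map (V0.ι.residueFieldMap y)) from inferInstance)
  obtain ⟨b, c, hc, hb⟩ := FibDim.exists_lift_fibre q y (m.appTop x)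
  obtain ⟨a, u, hu, hau⟩ := FibDim.exists_mul_eq_evaluation (Y := (V0 : Scheme.{u})) y c⁻¹
  have hsq : ∀ r, (q.fiberι y).appTop (q.appTop r) = (q.fiberToSpecResidueField y).appTop
      ((Scheme.ΓSpecIso _).inv ((V0 : Scheme.{u}).evaluation ⊤ y trivial r)) := fun r => by
    have h1 : (q.fiberι y ≫ q).appTop r =
        (q.fiberToSpecResidueField y ≫ (V0 : Scheme.{u}).fromSpecResidueField y).appTop r := by
      rw [q.fiber_fac y]
    rw [Scheme.Hom.comp_appTop, Scheme.Hom.comp_appTop, FibDim.fromSpecResidueField_appTop] at h1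
    exact h1
  have hkey : (q.fiberι y).appTop (b * q.appTop a) = (q.fiberι y).appTop (q.appTop u) * m.appTop x := by
    let κ : (V0 : Scheme.{u}).residueField y →+* Γ(q.fiber y, ⊤) :=
      ((Scheme.ΓSpecIso _).inv ≫ (q.fiberToSpecResidueField y).appTop).hom
    have hk : κ c * κ ((V0 : Scheme.{u}).evaluation ⊤ y trivial a) = κ ((V0 : Scheme.{u}).evaluation ⊤ y trivial u) := by
      rw [← map_mul, ← hau, ← mul_assoc, mul_inv_cancel₀ hc, one_mul]
    rw [map_mul, hsq, hsq, hb]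
    exact (mul_right_comm (κ c) (m.appTop x) _).trans (congrArg (· * m.appTop x) hk)
  let D := (V0 : Scheme.{u}).basicOpen u
  have hyD : y ∈ D := by
    by_contra hny
    exact hu ((Scheme.evaluation_eq_zero_iff_notMem_basicOpen (V0 : Scheme.{u}) (U := ⊤) y trivial u).2 hny)
  refine ⟨V0.ι ''ᵁ D, ⟨y, hyD, rfl⟩, ?_⟩
  have htop : (⊤ : (q.fiber y).Opens) ≤ q.fiberι y ⁻¹ᵁ (q ⁻¹ᵁ D) := top_le_fibre q hyD
  have huD : IsUnit ((W : Scheme.{u}).presheaf.map (homOfLE (le_top : q ⁻¹ᵁ D ≤ ⊤)).op (q.appTop u)) := by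
    have h0 : IsUnit ((V0 : Scheme.{u}).presheaf.map (homOfLE (le_top : D ≤ ⊤)).op u) :=
      RingedSpace.isUnit_res_basicOpen _ u
    have h1 := h0.map (q.app D).hom
    rw [← CommRingCat.comp_apply, q.naturality] at h1
    exact h1
  let t' : Γ(W, q ⁻¹ᵁ D) := (W : Scheme.{u}).presheaf.map (homOfLE (le_top : q ⁻¹ᵁ D ≤ ⊤)).op (b * q.appTop a) *
    ↑huD.unit⁻¹
  have ht' : (q.fiberι y).appLE (q ⁻¹ᵁ D) ⊤ htop t' = m.appTop x := by
    have hres : ∀ r : Γ(W, ⊤), (q.fiberι y).appLE (q ⁻¹ᵁ D) ⊤ htop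
        ((W : Scheme.{u}).presheaf.map (homOfLE (le_top : q ⁻¹ᵁ D ≤ ⊤)).op r) = (q.fiberι y).appTop r := fun r => by
      rw [← CommRingCat.comp_apply, Scheme.Hom.map_appLE]
      simp [Scheme.Hom.appLE]; rfl
    refine (huD.map ((q.fiberι y).appLE (q ⁻¹ᵁ D) ⊤ htop).hom).mul_left_cancel ?_
    rw [← map_mul, mul_left_comm, huD.mul_val_inv, mul_one, hres, hres]
    exact hkey
  have hWD : W.ι ''ᵁ (q ⁻¹ᵁ D) = h ⁻¹ᵁ (V0.ι ''ᵁ D) := image_morphismRestrict_preimage h V0 D
  refine ⟨N.presheaf.map (eqToHom hWD.symm).op ((W.ι.appIso (q ⁻¹ᵁ D)).inv t'), ?_⟩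
  have hmT : m.appLE ⊤ ⊤ le_top = m.appTop := by simp [Scheme.Hom.appLE]
  haveI : IsIso (m.appLE ⊤ ⊤ le_top) := by rw [hmT]; infer_instance
  refine (ConcreteCategory.bijective_of_isIso (m.appLE ⊤ ⊤ le_top)).1 ?_
  rw [← CommRingCat.comp_apply, ← CommRingCat.comp_apply, Scheme.Hom.appLE_comp_appLE, Scheme.Hom.map_appLE]
  simp only [hm]
  rw [← Scheme.Hom.appLE_comp_appLE _ _ (W.ι ''ᵁ (q ⁻¹ᵁ D)) (q ⁻¹ᵁ D) ⊤ (W.ι.preimage_image_eq _).ge htop,
    CommRingCat.comp_apply, ← CommRingCat.comp_apply (W.ι.appIso _).inv, Scheme.Hom.appIso_inv_appLE, hmT,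
    ← ht']
  simp
  rfl

/-- An idempotent function on a fibre of a proper morphism extends to a neighbourhood of the fibre. -/
theorem exists_idem_lift {X S : Scheme.{u}} (f : X ⟶ S) [IsProper f] (s : S) (e : Γ(f.fiber s, ⊤))
    (he : IsIdempotentElem e) :
    ∃ (V : S.Opens) (_ : s ∈ V) (t : Γ(X, f ⁻¹ᵁ V)),
      (f.fiberι s).app (f ⁻¹ᵁ V) t =
        (f.fiber s).presheaf.map (homOfLE (le_top : (f.fiberι s) ⁻¹ᵁ (f ⁻¹ᵁ V) ≤ ⊤)).op e := by
  haveI := SteinLib.isProper_toNormalization f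
  haveI := SteinLib.geometricallyConnected_toNormalization_general f
  let g := f.toNormalization
  let h := f.fromNormalization
  let φ := CohIII.fiberMapOver g f h f.toNormalization_fromNormalization s
  have sq : IsPullback (f.fiberι s) φ g (h.fiberι s) := by
    refine IsPullback.of_bot ?_ (pullback.lift_fst _ _ _).symm
      (IsPullback.of_hasPullback h (S.fromSpecResidueField s))
    have e1 : φ ≫ h.fiberToSpecResidueField s = f.fiberToSpecResidueField s :=
      (pullback.lift_snd _ _ _).trans (Category.comp_id _)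
    have e2 : φ ≫ pullback.snd h (S.fromSpecResidueField s) = f.fiberToSpecResidueField s := e1
    rw [e2, f.toNormalization_fromNormalization]
    exact IsPullback.of_hasPullback f (S.fromSpecResidueField s)
  haveI : GeometricallyConnected φ := MorphismProperty.of_isPullback sq ‹_›
  haveI : IsProper φ := MorphismProperty.of_isPullback sq ‹_›
  let U : Set (f.fiber s) := (f.fiber s).basicOpen e
  have hUc : IsClopen U := by
    refine ⟨?_, ((f.fiber s).basicOpen e).isOpen⟩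
    rw [show U = ((f.fiber s).basicOpen (1 - (1 - e)) : Set _) by rw [sub_sub_cancel],
      HensCouple7.basicOpen_compl_of_idem (IsIdempotentElem.one_sub he)]
    exact ((f.fiber s).basicOpen (1 - e)).isOpen.isClosed_compl
  have hfib : ∀ x x', φ x = φ x' → x ∈ U → x' ∈ U := fun x x' hxx hx => by
    obtain ⟨-, -, hpre⟩ := SteinLib.surjective_of_geometricallyConnected φ (φ x)
    exact hpre.subset_isClopen hUc ⟨x, rfl, hx⟩ hxx.symm
  have hs : Function.Surjective φ := fun z => by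
    obtain ⟨x, hx, -⟩ := SteinLib.surjective_of_geometricallyConnected φ z
    exact ⟨x, hx⟩
  have hZ : (φ '' U)ᶜ = φ '' Uᶜ := by
    ext z
    obtain ⟨x, rfl⟩ := hs z
    exact ⟨fun hz => ⟨x, fun hx => hz ⟨x, hx, rfl⟩, rfl⟩, fun ⟨x', hx', e1⟩ ⟨x'', hx'', e2⟩ =>
      hx' (hfib x'' x' (e2.trans e1.symm) hx'')⟩
  have hZc : IsClopen (φ '' U) := ⟨φ.isClosedMap _ hUc.1, by
    rw [← isClosed_compl_iff, hZ]; exact φ.isClosedMap _ hUc.compl.1⟩
  obtain ⟨ε, hε, hεZ⟩ := HensCouple7.exists_idempotent_of_isClopen hZc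
  have heq : φ.appTop ε = e := by
    refine HensCouple7.eq_of_basicOpen_eq (by rw [← map_mul, hε]) he ?_
    show _ = U
    rw [← Scheme.preimage_basicOpen_top, Opens.map_coe, hεZ]
    ext x
    exact ⟨fun ⟨x', hx', hh⟩ => hfib x' x hh hx', fun hx => ⟨x, hx, rfl⟩⟩
  obtain ⟨V, hsV, t, ht⟩ := exists_lift_fibre_nhds h s ε
  have hle : f ⁻¹ᵁ V ≤ g ⁻¹ᵁ (h ⁻¹ᵁ V) := by
    rw [← Scheme.Hom.comp_preimage, f.toNormalization_fromNormalization]
  refine ⟨V, hsV, g.appLE (h ⁻¹ᵁ V) (f ⁻¹ᵁ V) hle t, ?_⟩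
  rw [Scheme.Hom.app_eq_appLE, ← CommRingCat.comp_apply, Scheme.Hom.appLE_comp_appLE, ← heq]
  simp only [sq.w]
  rw [← Scheme.Hom.appLE_comp_appLE _ _ _ ⊤ _ (top_le_fibre h hsV) le_top,
    CommRingCat.comp_apply, ht]
  rw [← CommRingCat.comp_apply, Scheme.Hom.appTop, Scheme.Hom.app_eq_appLE, Scheme.Hom.appLE_map]

end Groth.Agent.RBC
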