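import Mathlib.CategoryTheory.Adjunction.Unique
import Mathlib.CategoryTheory.Adjunction.Opposites
import Mathlib.CategoryTheory.Functor.FullyFaithful

/-!
# Base change transformations of a commutative square of left adjoints

The category theory behind the base change maps: pasting, transport, and descent of a square along a
localisation.
-/

set_option autoImplicit false

universe v₁ v₂ v₃ v₄ v₅ v₆ u₁ u₂ u₃ u₄ u₅ u₆

open CategoryTheory

namespace Groth.Agent.RBC

variable {A : Type u₁} [Category.{v₁} A] {B : Type u₂} [Category.{v₂} B]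
  {A' : Type u₃} [Category.{v₃} A'] {B' : Type u₄} [Category.{v₄} B']
  {L : A ⥤ B} {R : B ⥤ A} {L' : A' ⥤ B'} {R' : B' ⥤ A'} {G : A ⥤ A'} {G' : B ⥤ B'}

/-- The base change transformation attached to `α : G ⋙ L' ⟶ L ⋙ G'`. -/
@[simps]
def bcM (a : L ⊣ R) (a' : L' ⊣ R') (α : G ⋙ L' ⟶ L ⋙ G') : R ⋙ G ⟶ G' ⋙ R' where
  app E := a'.homEquiv _ _ (α.app (R.obj E) ≫ G'.map (a.counit.app E))
  naturality E F φ := by
    simp only [Functor.comp_map]
    rw [← a'.homEquiv_naturality_left, ← a'.homEquiv_naturality_right]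
    refine congrArg _ ?_
    have hα := α.naturality (R.map φ)
    simp only [Functor.comp_map] at hα
    simp only [Category.assoc]
    erw [reassoc_of% hα]
    simp [← Functor.map_comp]

variable (a : L ⊣ R) (a' : L' ⊣ R') (α : G ⋙ L' ⟶ L ⋙ G')

lemma homEquiv_symm_bcM (E : B) :
    (a'.homEquiv _ _).symm ((bcM a a' α).app E) = α.app (R.obj E) ≫ G'.map (a.counit.app E) :=
  Equiv.symm_apply_apply _ _

/-- The value on a free object, through the units. -/
lemma map_unit_bcM (K : A) :
    G.map (a.unit.app K) ≫ (bcM a a' α).app (L.obj K) =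
      a'.unit.app (G.obj K) ≫ R'.map (α.app K) := by
  apply (a'.homEquiv _ _).symm.injective
  erw [a'.homEquiv_naturality_left_symm, homEquiv_symm_bcM, ← a'.homEquiv_unit, Equiv.symm_apply_apply]
  have hα := α.naturality (a.unit.app K)
  simp only [Functor.comp_map] at hα
  erw [reassoc_of% hα]
  simp [← Functor.map_comp]

section Horizontal

variable {A'' : Type u₅} [Category.{v₅} A''] {B'' : Type u₆} [Category.{v₆} B'']
  {L'' : A'' ⥤ B''} {R'' : B'' ⥤ A''} (a'' : L'' ⊣ R'') {G₂ : A' ⥤ A''} {G₂' : B' ⥤ B''}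
  (α₂ : G₂ ⋙ L'' ⟶ L' ⋙ G₂')

/-- Horizontal pasting of squares. -/
@[simps]
def hPaste : (G ⋙ G₂) ⋙ L'' ⟶ L ⋙ (G' ⋙ G₂') where
  app K := α₂.app (G.obj K) ≫ G₂'.map (α.app K)
  naturality K K' φ := by
    have h₁ := α.naturality φ
    have h₂ := α₂.naturality (G.map φ)
    simp only [Functor.comp_map] at h₁ h₂ ⊢
    erw [reassoc_of% h₂]
    simp only [Category.assoc, ← Functor.map_comp]
    exact congrArg _ (congrArg G₂'.map h₁)

lemma bcM_hPaste (E : B) :
    (bcM a a'' (hPaste α α₂)).app E =
      G₂.map ((bcM a a' α).app E) ≫ (bcM a' a'' α₂).app (G'.obj E) := by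
  apply (a''.homEquiv _ _).symm.injective
  erw [homEquiv_symm_bcM, a''.homEquiv_naturality_left_symm, homEquiv_symm_bcM]
  have h₂ := α₂.naturality ((bcM a a' α).app E)
  simp only [Functor.comp_map] at h₂
  erw [reassoc_of% h₂]
  simp only [hPaste_app, Functor.comp_map, Category.assoc, ← Functor.map_comp]
  refine congrArg _ (congrArg G₂'.map ?_)
  exact (homEquiv_symm_bcM a a' α E).symm.trans (a'.homEquiv_counit ..)

end Horizontal

section Vertical

variable {C : Type u₅} [Category.{v₅} C] {C' : Type u₆} [Category.{v₆} C']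
  {M : B ⥤ C} {P : C ⥤ B} (b : M ⊣ P) {M' : B' ⥤ C'} {P' : C' ⥤ B'} (b' : M' ⊣ P')
  {G'' : C ⥤ C'} (β : G' ⋙ M' ⟶ M ⋙ G'')

/-- Vertical pasting of squares. -/
@[simps]
def vPaste : G ⋙ (L' ⋙ M') ⟶ (L ⋙ M) ⋙ G'' where
  app K := M'.map (α.app K) ≫ β.app (L.obj K)
  naturality K K' φ := by
    have h₁ := α.naturality φ
    have h₂ := β.naturality (L.map φ)
    simp only [Functor.comp_map] at h₁ h₂ ⊢
    rw [← Functor.map_comp_assoc, h₁, Functor.map_comp_assoc]
    simp only [Category.assoc]
    exact congrArg _ h₂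

lemma bcM_vPaste (F : C) :
    (bcM (a.comp b) (a'.comp b') (vPaste α β)).app F =
      (bcM a a' α).app (P.obj F) ≫ R'.map ((bcM b b' β).app F) := by
  apply ((a'.comp b').homEquiv _ _).symm.injective
  rw [homEquiv_symm_bcM, Adjunction.comp_homEquiv]
  simp only [Equiv.symm_trans_apply]
  erw [a'.homEquiv_naturality_right_symm, homEquiv_symm_bcM, b'.homEquiv_naturality_left_symm,
    homEquiv_symm_bcM]
  have h₂ := β.naturality (a.counit.app (P.obj F))
  simp only [Functor.comp_map] at h₂
  simp only [vPaste_app, Functor.comp_obj, Adjunction.comp_counit_app,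
    Functor.map_comp, Category.assoc]
  erw [reassoc_of% h₂]

end Vertical

section Transport

variable {G₁ : A ⥤ A'} {G₁' : B ⥤ B'} (i : G ≅ G₁) (i' : G' ≅ G₁')

/-- The square transported along isomorphisms of the horizontal functors. -/
abbrev trG : G₁ ⋙ L' ⟶ L ⋙ G₁' :=
  Functor.whiskerRight i.inv L' ≫ α ≫ Functor.whiskerLeft L i'.hom

lemma bcM_trG (E : B) :
    i.hom.app (R.obj E) ≫ (bcM a a' (trG α i i')).app E =
      (bcM a a' α).app E ≫ R'.map (i'.hom.app E) := by
  apply (a'.homEquiv _ _).symm.injective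
  erw [a'.homEquiv_naturality_left_symm, homEquiv_symm_bcM, a'.homEquiv_naturality_right_symm,
    homEquiv_symm_bcM]
  simp only [trG, NatTrans.comp_app, Functor.whiskerRight_app, Functor.whiskerLeft_app, Category.assoc]
  rw [← Functor.map_comp_assoc, Iso.hom_inv_id_app]
  simp only [CategoryTheory.Functor.map_id, Category.id_comp]
  exact congrArg _ (i'.hom.naturality _).symm

lemma isIso_bcM_trG_iff (E : B) :
    IsIso ((bcM a a' (trG α i i')).app E) ↔ IsIso ((bcM a a' α).app E) := by
  rw [← isIso_comp_left_iff (i.hom.app (R.obj E)), bcM_trG, isIso_comp_right_iff]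

end Transport

section Conj

variable {Q : A' ⥤ A} (ag : G ⊣ Q) {Q' : B' ⥤ B} (ag' : G' ⊣ Q') (αi : G ⋙ L' ≅ L ⋙ G')

/-- The identification of the composed right adjoints. -/
noncomputable def sqConj : Q' ⋙ R ≅ R' ⋙ Q :=
  ((a.comp ag').ofNatIsoLeft αi.symm).rightAdjointUniq (ag.comp a')

lemma sqConj_spec (F : B') :
    ((ag.comp a').homEquiv _ _).symm ((sqConj a a' ag ag' αi).hom.app F) =
      αi.hom.app (R.obj (Q'.obj F)) ≫ G'.map (a.counit.app (Q'.obj F)) ≫ ag'.counit.app F := by
  rw [sqConj, Adjunction.homEquiv_symm_rightAdjointUniq_hom_app]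
  simp [Adjunction.ofNatIsoLeft]

/-- The base change map is the transpose of the unit followed by `sqConj`. -/
lemma bcM_eq_transpose (E : B) :
    (ag.homEquiv _ _).symm
        (R.map (ag'.unit.app E) ≫ (sqConj a a' ag ag' αi).hom.app (G'.obj E)) =
      (bcM a a' αi.hom).app E := by
  apply (a'.homEquiv _ _).symm.injective
  erw [homEquiv_symm_bcM, ag.homEquiv_naturality_left_symm, a'.homEquiv_naturality_left_symm]
  have h := sqConj_spec a a' ag ag' αi (G'.obj E)
  rw [Adjunction.comp_homEquiv] at h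
  simp only [Equiv.symm_trans_apply] at h
  erw [h]
  have hα := αi.hom.naturality (R.map (ag'.unit.app E))
  simp only [Functor.comp_map] at hα
  erw [reassoc_of% hα]
  rw [← Functor.map_comp_assoc]
  erw [a.counit_naturality, Functor.map_comp_assoc]
  erw [ag'.left_triangle_components]
  simp

/-- At the image of the right adjoint the base change map is `sqConj` followed by the counit. -/
lemma bcM_rightAdjoint (F : B') :
    (bcM a a' αi.hom).app (Q'.obj F) ≫ R'.map (ag'.counit.app F) =
      G.map ((sqConj a a' ag ag' αi).hom.app F) ≫ ag.counit.app (R'.obj F) := by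
  apply (a'.homEquiv _ _).symm.injective
  erw [a'.homEquiv_naturality_right_symm, homEquiv_symm_bcM, Category.assoc, ← sqConj_spec a a' ag ag' αi F,
    Adjunction.comp_homEquiv]
  simp only [Equiv.symm_trans_apply]
  exact congrArg _ (ag.homEquiv_counit ..)

lemma isIso_bcM_rightAdjoint (F : B') [IsIso (ag'.counit.app F)] [IsIso (ag.counit.app (R'.obj F))] :
    IsIso ((bcM a a' αi.hom).app (Q'.obj F)) := by
  rw [← isIso_comp_right_iff _ (R'.map (ag'.counit.app F)), bcM_rightAdjoint a a' ag ag' αi F]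
  infer_instance

end Conj

section Descend

variable {Gi : A ⥤ B} {Qi : B ⥤ A} (c : Gi ⊣ Qi) [IsIso c.counit]

/-- Natural transformations descend along a localisation with fully faithful right adjoint. -/
noncomputable def descendNat {C' : Type u₅} [Category.{v₅} C'] {F₁ F₂ : B ⥤ C'}
    (θ : Gi ⋙ F₁ ⟶ Gi ⋙ F₂) : F₁ ⟶ F₂ where
  app K := F₁.map (inv (c.counit.app K)) ≫ θ.app (Qi.obj K) ≫ F₂.map (c.counit.app K)
  naturality K K' φ := by
    have hθ := θ.naturality (Qi.map φ)
    simp only [Functor.comp_map] at hθ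
    have hc : inv (c.counit.app K) ≫ Gi.map (Qi.map φ) = φ ≫ inv (c.counit.app K') := by
      rw [IsIso.inv_comp_eq, ← Category.assoc, IsIso.eq_comp_inv]
      exact c.counit_naturality φ
    rw [← Functor.map_comp_assoc, ← hc, Functor.map_comp_assoc]
    erw [reassoc_of% hθ]
    simp only [Category.assoc, ← Functor.map_comp]
    exact congrArg _ (congrArg _ (congrArg _ (c.counit_naturality φ)))

lemma descendNat_app {C' : Type u₅} [Category.{v₅} C'] {F₁ F₂ : B ⥤ C'}
    (θ : Gi ⋙ F₁ ⟶ Gi ⋙ F₂) (K : A) : (descendNat c θ).app (Gi.obj K) = θ.app K := by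
  have hθ := θ.naturality (c.unit.app K)
  simp only [Functor.comp_map] at hθ
  have hc : inv (c.counit.app (Gi.obj K)) = Gi.map (c.unit.app K) := by
    apply IsIso.inv_eq_of_inv_hom_id
    exact c.left_triangle_components K
  simp only [descendNat, hc]
  erw [reassoc_of% hθ]
  rw [← Functor.map_comp, c.left_triangle_components]
  simp

end Descend

end Groth.Agent.RBC
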