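import Groth.Agent.KFlatLib.Scheme.DQCohLimit
import Groth.Agent.KFlatLib.Scheme.RpushBound
import Groth.Agent.KFlatLib.Scheme.RpushTriangle
import Groth.Agent.PushAmp.TensorBound
import Groth.Agent.PushAmp.Basic
import Groth.Agent.ProjPush.PushPC

/-!
# Direct images of pseudo-coherent objects from the bounded case
-/

set_option autoImplicit false
set_option linter.style.haveILetI false
set_option backward.isDefEq.respectTransparency false
set_option backward.isDefEq.respectTransparency.types false

universe u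

open CategoryTheory CategoryTheory.Limits AlgebraicGeometry Pretriangulated TopologicalSpace

attribute [local instance] HasDerivedCategory.standard

noncomputable section

namespace Groth.Agent.RBC

open Groth.Agent.KFlatLib Groth.Agent.DQGen

variable {X Y : Scheme.{u}}

/-- Pseudo-coherent objects on quasi-compact schemes are bounded above. -/
theorem exists_isLE_of_locPC_compact [CompactSpace X] {m : ℤ} {F : DCoh.D X} (hF : LocPC m F) :
    ∃ b : ℤ, F.IsLE b := by
  choose U j hj hx P α hP hα using hF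
  choose lo hi hb using fun x => (hP x).1
  obtain ⟨t, ht⟩ := isCompact_univ.elim_finite_subcover
    (fun x : X => Set.range (j x).base)
    (fun x => haveI := hj x; (j x).isOpenEmbedding.isOpen_range)
    (fun x _ => Set.mem_iUnion.2 ⟨x, hx x⟩)
  let N : ℕ := ∑ x ∈ t, (hi x).natAbs
  refine ⟨max m N, (DerivedCategory.isLE_iff _ _).2 fun i hmi => ?_⟩
  refine isZero_of_isZero_restrict _ fun y => ?_
  obtain ⟨x, hxt, hy⟩ := Set.mem_iUnion₂.1 (ht (Set.mem_univ y))
  haveI := hj x
  let V := (j x).opensRange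
  let w : (V : Scheme.{u}) ⟶ U x := (j x).isoOpensRange.inv
  have hN : (hi x).natAbs ≤ N :=
    Finset.single_le_sum (f := fun x => (hi x).natAbs) (fun _ _ => Nat.zero_le _) hxt
  haveI := (hα x).1 i (by omega)
  have hz : IsZero (DCoh.HD ((rho (j x)).obj F) i) :=
    ((ShortComplex.isZero_homology_of_isZero_X₂ ((P x).sc i) (hb x i (Or.inr (by omega)))).of_iso
      ((DerivedCategory.homologyFunctorFactors _ i).app (P x))).of_iso
      (asIso ((DerivedCategory.homologyFunctor _ i).map (α x))).symm
  refine ⟨V, hy, ?_⟩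
  exact ((Scheme.Modules.restrictFunctor w).map_isZero
      (hz.of_iso ((mapDCHomologyIso (Scheme.Modules.restrictFunctor (j x)) i).app F).symm)).of_iso
    ((Scheme.Modules.restrictFunctorCongr (j x).isoOpensRange_inv_comp.symm).app _ ≪≫
      (Scheme.Modules.restrictFunctorComp w (j x)).app _)

/-- The case of unbounded pseudo-coherent objects, given a bound on bounded ones. -/
theorem locPC_rpush_of_bounded_case (f : X ⟶ Y) [QuasiCompact f] [QuasiSeparated f] [CompactSpace Y]
    [DCoh.HasRpush f] (k : ℤ)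
    (hK : ∀ (F : DCoh.D X) (n a b : ℤ), F.IsGE a → F.IsLE b → LocPC n F →
      LocPC (n + k) ((DCoh.Rpush f).obj F))
    (F : DCoh.D X) (hF : ∀ m, LocPC m F) (m : ℤ) : LocPC m ((DCoh.Rpush f).obj F) := by
  haveI : CompactSpace X := QuasiCompact.compactSpace_of_compactSpace f
  obtain ⟨b, hb⟩ := exists_isLE_of_locPC_compact (hF 0)
  obtain ⟨N, hN⟩ := PushAmp.exists_hd_bound f
  have hq : DCoh.IsQCohD F := ProjPush.isQCohD_of_locPC hF
  let n : ℕ := (|m| + (N : ℤ) + |k| + |b| + 1).toNat
  let t : Triangulated.TStructure (DCoh.D X) := DerivedCategory.TStructure.t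
  let T := (t.triangleLTGE (-(n : ℤ))).obj F
  have hT : T ∈ distTriang _ := t.triangleLTGE_distinguished _ F
  haveI h1 : T.obj₁.IsLE (-(n : ℤ) - 1) := t.isLE_truncLT_obj F _ _ (by omega)
  haveI : T.obj₂.IsLE b := hb
  haveI : T.obj₃.IsGE (-(n : ℤ)) := t.isGE_truncGE_obj F _ _ le_rfl
  haveI : T.obj₃.IsLE b := (DerivedCategory.isLE_iff _ _).2 fun i hi => by
    have hn : -(n : ℤ) ≤ i := by
      have := abs_nonneg b; have := neg_abs_le b; have := abs_nonneg k; have := abs_nonneg m; omega
    haveI := isIso_h_truncTπ F n i hn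
    exact (DerivedCategory.isZero_of_isLE F b i hi).of_iso
      (asIso ((DerivedCategory.homologyFunctor X.Modules i).map (truncTπ F n))).symm
  have hq₃ : DCoh.IsQCohD T.obj₃ := isQCohD_truncT hq n
  have hq₁ : DCoh.IsQCohD T.obj₁ := isQCohD_obj₁ hT hq hq₃
  have hn : -(n : ℤ) - 1 + N < m - 1 ∧ -(n : ℤ) - 1 < m - k := by
    have := abs_nonneg k; have := le_abs_self k; have := abs_nonneg b; have := neg_abs_le m; omega
  have hp₃ : LocPC (m - k) T.obj₃ :=
    (locPC_two_of_three (m - k) T hT).1
      (PushAmp.locPC_of_isZero_above fun i hi => DerivedCategory.isZero_of_isLE _ (-(n : ℤ) - 1) i (by omega))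
      (hF _)
  obtain ⟨c, hc⟩ := exists_rpush_triangle f T hT
  have h3 : LocPC m ((DCoh.Rpush f).obj T.obj₃) := by
    have := hK T.obj₃ (m - k) (-(n : ℤ)) b inferInstance inferInstance hp₃
    rwa [sub_add_cancel] at this
  have h₁ : LocPC m ((DCoh.Rpush f).obj T.obj₁) :=
    PushAmp.locPC_of_isZero_above fun i hi => hN T.obj₁ hq₁ (-(n : ℤ) - 1) inferInstance i (by omega)
  exact (locPC_two_of_three m _ hc).2.1 h₁ h3

end Groth.Agent.RBC
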