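import Groth.Agent.KFlatLib.Scheme.DQCohLimit
import Groth.Agent.KFlatLib.Scheme.TildeD
import Groth.Agent.ProjPush.DetectMain
import Groth.Agent.FComplLib.AffMod

/-!
# Maps out of the structure module in the derived category of an affine scheme
-/

set_option autoImplicit false
set_option linter.style.haveILetI false
set_option backward.isDefEq.respectTransparency false
set_option backward.isDefEq.respectTransparency.types false

universe u

open CategoryTheory CategoryTheory.Limits AlgebraicGeometry Pretriangulated TopologicalSpace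

attribute [local instance] HasDerivedCategory.standard

noncomputable section

namespace Groth.Agent.RBC

open Groth.Agent.KFlatLib

variable {X : Scheme.{u}}

/-- The structure module in degree `n`. -/
abbrev oD (X : Scheme.{u}) (n : ℤ) : DCoh.D X :=
  (DerivedCategory.singleFunctor X.Modules n).obj (Coh.structureModule X)

variable [IsAffine X]

lemma bijective_psiC_oD {L : DCoh.D X} (hL : DCoh.IsQCohD L) (n : ℤ) :
    Function.Bijective (psiC n (Coh.structureModule X) L) := by
  obtain ⟨e⟩ := ProjPush.nonempty_secObj_top X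
  exact bijective_psiC_of_iso_left e (bijective_psiC_of_shift
    (bijH0_of_isQCohD (isQCohD_shift hL n) (isAffineOpen_top X)))

/-- `Hom(O, M) ≃ Γ(M, ⊤)`. -/
lemma exists_topEquiv : ∃ e : ∀ M : X.Modules, (Coh.structureModule X ⟶ M) ≃ Γ(M, ⊤),
    ∀ {M N : X.Modules} (φ : Coh.structureModule X ⟶ M) (g : M ⟶ N), e N (φ ≫ g) = g.app ⊤ (e M φ) :=
  ⟨fun M => topEquiv M, fun φ g => topEquiv_naturality φ g⟩

lemma isIso_of_bijective_hom {M N : X.Modules} (hM : Coh.IsQCoh M) (hN : Coh.IsQCoh N) (g : M ⟶ N)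
    (h : Function.Bijective fun φ : Coh.structureModule X ⟶ M => φ ≫ g) : IsIso g := by
  obtain ⟨e, he⟩ := exists_topEquiv (X := X)
  refine FComplLib.isIso_of_bijective_app_top hM hN g ?_
  have : (g.app ⊤ : Γ(M, ⊤) → Γ(N, ⊤)) = e N ∘ (fun φ => φ ≫ g) ∘ (e M).symm := by
    funext x
    simp [he]
  rw [this]
  exact (e N).bijective.comp (h.comp (e M).symm.bijective)

/-- A map between objects with quasi-coherent cohomology is invertible if it is bijective on all
maps out of shifts of the structure module. -/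
theorem isIso_of_bijective_oD {A B : DCoh.D X} (hA : DCoh.IsQCohD A) (hB : DCoh.IsQCohD B) (φ : A ⟶ B)
    (h : ∀ n : ℤ, Function.Bijective fun x : oD X n ⟶ A => x ≫ φ) : IsIso φ := by
  refine (DerivedCategory.isIso_iff _ _).2 fun n => isIso_of_bijective_hom (hA n) (hB n) _ ?_
  have bA := bijective_psiC_oD hA n
  have bB := bijective_psiC_oD hB n
  refine ⟨fun x y hxy => ?_, fun z => ?_⟩
  · obtain ⟨a, rfl⟩ := bA.2 x
    obtain ⟨b, rfl⟩ := bA.2 y
    simp only [← psiC_comp] at hxy
    rw [(h n).1 (bB.1 hxy)]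
  · obtain ⟨c, rfl⟩ := bB.2 z
    obtain ⟨a, rfl⟩ := (h n).2 c
    exact ⟨_, (psiC_comp a φ).symm⟩

lemma subsingleton_hom_oD {L : DCoh.D X} (hL : DCoh.IsQCohD L) (n : ℤ) (h : IsZero (DCoh.HD L n)) :
    Subsingleton (oD X n ⟶ L) :=
  ⟨fun a b => (bijective_psiC_oD hL n).1 (h.eq_of_tgt _ _)⟩

lemma isZero_hd_of_subsingleton {L : DCoh.D X} (hL : DCoh.IsQCohD L) (n : ℤ)
    (h : Subsingleton (oD X n ⟶ L)) : IsZero (DCoh.HD L n) := by
  obtain ⟨e, he⟩ := exists_topEquiv (X := X)
  refine isZero_of_sections (hL n) fun x => ⟨⊤, trivial, isAffineOpen_top X, ⟨fun a b => ?_⟩⟩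
  obtain ⟨φ, hφ⟩ := (bijective_psiC_oD hL n).2 ((e _).symm a)
  obtain ⟨ψ, hψ⟩ := (bijective_psiC_oD hL n).2 ((e _).symm b)
  exact (e _).symm.injective (hφ ▸ hψ ▸ congrArg _ (h.elim φ ψ))

lemma isQCohD_single {M : X.Modules} (hM : Coh.IsQCoh M) (n : ℤ) :
    DCoh.IsQCohD ((DerivedCategory.singleFunctor X.Modules n).obj M) := fun i => by
  by_cases h : i = n
  · subst h
    exact isQCoh_of_iso ((DerivedCategory.singleFunctorCompHomologyFunctorIso X.Modules i).app M).symm hM
  · rcases lt_or_gt_of_ne h with h | h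
    · exact isQCoh_of_isZero (DerivedCategory.isZero_of_isGE _ n i h)
    · exact isQCoh_of_isZero (DerivedCategory.isZero_of_isLE _ n i h)

end Groth.Agent.RBC
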